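import Cfsg.Agent.H439.Der.Tools
import Cfsg.Agent.H946.RadD4_m3
import Cfsg.Agent.H129.CycCard
import Cfsg.Agent.H129.CycRow
import Cfsg.Agent.H348.Der.Class
import Cfsg.Agent.H834.Sax.Tool
import Cfsg.Agent.H341.ThreeList_m3
import Cfsg.Agent.S2366
import Cfsg.Agent.S2476
import Cfsg.Agent.S2119
import Cfsg.Agent.S0256
import Cfsg.Agent.H378.RegE7
import Cfsg.Agent.S2121
import Cfsg.Agent.H161.G2Main
import Cfsg.Prelude.Def_Classification2
import Cfsg.Agent.S0252
import Cfsg.Agent.S0253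
import Cfsg.Agent.S0254
import Cfsg.Agent.S0255
import Cfsg.Agent.S0822
import Cfsg.Agent.FastGrp
import Cfsg.Agent.Prune
set_option linter.all false

section
prune_inst 0x7ffdfef9bff82ddeffff7e7ffefddffff9fcffffffdffbcbffecebffafdf6b0efbe5fbaf1fead8ff0ed6e09e30f87b53f8feceffef6bdc7ffffd5ff45ffbff9fffffbf8171d69c3e1f7e6ffffbf07f8e7f3fffffffffffffffffffffffffffbeffffffffffff

-- part: H394/Der/Gen_mg
section
prune_inst 0x40001800100000000000000000200000000000000000200000000001000000000000000000000002000000000000020000000000000000000000000000000000000000000000000000000004000000000000000000000000000000000000000000000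
set_option linter.all false
open scoped Cfsg.Agent.FastGrp

-- part: H394/Der/Tor
section
/-!
# One class of derangements: primes with cyclic centralisers (helper394, task 2396)

* `not_SC_of_cycCard` : a cyclic torus whose order is not `v`;
* `card_conjPow` : the number of conjugates of `x` in `⟨x⟩`, when `⟨x⟩` is the centraliser of `x`;
* `not_SC_of_exact`, `twoT_of_exact`.
-/

set_option autoImplicit false

namespace Cfsg.Agent.H394.Der

open Subgroup Cfsg.Agent.H439.Der Cfsg.Agent.H129.CycT Cfsg.Agent.H129.CycCard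

variable {T : Type*} [Group T]

theorem card_conjPow [Finite T] {v K m : ℕ} (hv : v.Prime) (h : CycExact T v) (hK : Nat.card T = v * K)
    (hm : K ≡ m [MOD v]) (hm0 : 0 < m) (hmv : m < v) {x : T} (hx : orderOf x = v) :
    Nat.card (conjPow x) = m := by
  have hC : Nat.card (centralizer ({x} : Set T)) = v := CycExact.card_centralizer hv dvd_rfl h hx
  have hcyc : IsCyclic (centralizer ({x} : Set T)) := (h.cycAt hv dvd_rfl).isCyclic hv hx
  have hvK : ¬ v ∣ K := by
    intro h1
    have h2 : m ≡ 0 [MOD v] := hm.symm.trans ((Nat.modEq_zero_iff_dvd).2 h1)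
    exact absurd (Nat.le_of_dvd hm0 ((Nat.modEq_zero_iff_dvd).1 h2)) (by omega)
  have h1 := Cfsg.Agent.H946.Rad.card_normalizer hv hx hcyc hC hK hvK hm hm0 hmv
  have h2 := card_conjPow_mul x
  rw [hC, h1, mul_comm v m] at h2
  exact Nat.eq_of_mul_eq_mul_right hv.pos h2

end Cfsg.Agent.H394.Der
end

-- part: H394/Der/Cnt
section
/-!
# Counting the classes of elements of order divisible by `v` (helper394, task 2983)

* `card_le_of_cover` : a set of elements covered by `k` classes under `Aut T`;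
* `not_SCC_of_card` : `¬ SCC` for a cyclic self-centralising torus.
-/

set_option autoImplicit false

namespace Cfsg.Agent.H394.Der

open Subgroup Cfsg.Agent.H439.Der Cfsg.Agent.H129.CycT Cfsg.Agent.H129.CycCard

variable {T : Type*} [Group T]

theorem card_le_of_cover [Finite T] {k m : ℕ} (r : Fin k → T) (S : Finset T)
    (h : ∀ z ∈ S, ∃ i, ∃ φ : T ≃* T, φ (r i) = z)
    (hm : ∀ z ∈ S, ∀ S' : Finset T, (∀ w ∈ S', w ∈ S ∧ ∃ g : T, g * z * g⁻¹ = w) → S'.card ≤ m) :
    S.card ≤ m * (k * Nat.card (Cfsg.Out T)) := by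
  classical
  have : Finite (MulAut T) := Finite.of_injective (fun f : MulAut T => (f : T → T)) DFunLike.coe_injective
  have := Fintype.ofFinite T
  have := Fintype.ofFinite (Cfsg.Out T)
  rcases S.eq_empty_or_nonempty with h0 | ⟨z0, hz0⟩
  · rw [h0]; exact Nat.zero_le _
  obtain ⟨i0, -, -⟩ := h z0 hz0
  have hφ : ∀ y : T, ∃ c : Fin k × MulAut T, y ∈ S → c.2 (r c.1) = y := by
    intro y
    by_cases hy : y ∈ S
    · obtain ⟨i, φ, hφ⟩ := h y hy
      exact ⟨(i, φ), fun _ => hφ⟩
    · exact ⟨(i0, 1), fun h => absurd h hy⟩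
  choose c hc using hφ
  have hcard : (Finset.univ : Finset (Fin k × Cfsg.Out T)).card = k * Nat.card (Cfsg.Out T) := by
    rw [Finset.card_univ, Fintype.card_prod, Fintype.card_fin, Nat.card_eq_fintype_card]
  rw [← hcard]
  refine Finset.card_le_mul_card_image_of_maps_to (f := fun y => ((c y).1, (QuotientGroup.mk (c y).2 : Cfsg.Out T)))
    (t := Finset.univ) (fun _ _ => Finset.mem_univ _) _ ?_
  intro d _
  rcases Finset.eq_empty_or_nonempty (S.filter fun y => ((c y).1, (QuotientGroup.mk (c y).2 : Cfsg.Out T)) = d) with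
    h0 | ⟨y0, hy0⟩
  · rw [h0]; exact Nat.zero_le _
  rw [Finset.mem_filter] at hy0
  refine hm y0 hy0.1 _ ?_
  intro y hy
  rw [Finset.mem_filter] at hy
  refine ⟨hy.1, ?_⟩
  have h1 : (c y0).1 = (c y).1 := by rw [congrArg Prod.fst (hy0.2.trans hy.2.symm)]
  have h2 : (QuotientGroup.mk (c y0).2 : Cfsg.Out T) = QuotientGroup.mk (c y).2 :=
    congrArg Prod.snd (hy0.2.trans hy.2.symm)
  rw [QuotientGroup.eq] at h2
  obtain ⟨g, hg⟩ := h2
  have h3 : (c y).2 = (c y0).2 * MulAut.conj g := by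
    have hg' : MulAut.conj g = ((c y0).2)⁻¹ * (c y).2 := hg
    rw [hg', mul_inv_cancel_left]
  have h4 : (c y).2 (r (c y).1) = (c y0).2 (g * r (c y0).1 * g⁻¹) := by
    rw [h3, ← h1]; rfl
  refine ⟨(c y0).2 g, ?_⟩
  rw [← hc y hy.1, h4, map_mul, map_mul, map_inv, hc y0 hy0.1]

/-- the elements of a cyclic group whose order is divisible by `v` -/
theorem card_div_filter {C : Type*} [Group C] [Fintype C] [IsCyclic C] {v : ℕ} (hv : v.Prime)
    (hd : v ∣ Nat.card C) (P : C → Prop) [DecidablePred P] (hP : ∀ z, P z ↔ v ∣ orderOf z) :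
    Nat.card C ≤ (Finset.univ.filter P).card + Nat.card C / v := by
  classical
  have h1 := Finset.card_filter_add_card_filter_not (s := (Finset.univ : Finset C)) P
  rw [Finset.card_univ, ← Nat.card_eq_fintype_card] at h1
  have hpos : 0 < Nat.card C := Nat.card_pos
  have h2 : (Finset.univ.filter fun z : C => ¬ P z).card ≤ Nat.card C / v := by
    refine le_trans (Finset.card_le_card ?_) (IsCyclic.card_pow_eq_one_le (α := C) (n := Nat.card C / v)
      (Nat.div_pos (Nat.le_of_dvd hpos hd) hv.pos))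
    intro z hz
    rw [Finset.mem_filter] at hz ⊢
    refine ⟨Finset.mem_univ _, ?_⟩
    rw [← orderOf_dvd_iff_pow_eq_one]
    have h3 : ¬ v ∣ orderOf z := fun h => hz.2 ((hP z).2 h)
    have h4 : orderOf z ∣ v * (Nat.card C / v) := by
      rw [Nat.mul_div_cancel' hd]
      exact _root_.orderOf_dvd_natCard z
    exact Nat.Coprime.dvd_of_dvd_mul_left ((Nat.Prime.coprime_iff_not_dvd hv).2 h3).symm h4
  omega

/-- **Not at most two classes** of elements of order divisible by `v`. -/
theorem not_SCC_of_card [Finite T] {v N K m o : ℕ} (hv : v.Prime) (h : CycCard T v N 1) (hK : Nat.card T = N * K)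
    (hvK : ¬ v ∣ K) (hm : K ≡ m [MOD v]) (hm0 : 0 < m) (hmv : m < v) (hO : Nat.card (Cfsg.Out T) ≤ o)
    (hlt : N / v + m * (2 * o) < N) : ¬ SCC T v := by
  classical
  rintro ⟨x, y, hxy⟩
  obtain ⟨C, h1, h2, h3, h4, h5⟩ := h
  rw [one_mul] at h3
  have hCN : Nat.card C = N := Nat.dvd_antisymm h2 h3
  have := Fintype.ofFinite T
  have := Fintype.ofFinite C
  have hcomm : ∀ a ∈ C, ∀ b ∈ C, a * b = b * a := by
    intro a ha b hb
    let _ : CommGroup ↥C := IsCyclic.commGroup
    exact congrArg Subtype.val (mul_comm (⟨a, ha⟩ : ↥C) ⟨b, hb⟩)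
  have hcent : ∀ a ∈ C, orderOf a = v → centralizer ({a} : Set T) = C := by
    intro a ha hav
    refine le_antisymm (h5 a ha hav) fun b hb => ?_
    rw [mem_centralizer_singleton_iff]
    exact hcomm b hb a ha
  let S : Finset T := Finset.univ.filter fun z => z ∈ C ∧ v ∣ orderOf z
  have hS : Nat.card C ≤ S.card + Nat.card C / v := by
    refine (card_div_filter (C := C) hv (by rw [hCN]; exact hCN ▸ h4) (fun z => v ∣ orderOf z) fun z => Iff.rfl).trans ?_
    refine Nat.add_le_add_right ?_ _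
    refine Finset.card_le_card_of_injOn (fun z => (z : T)) ?_ (Subtype.val_injective.injOn)
    intro z hz
    rw [Finset.mem_coe, Finset.mem_filter] at hz
    rw [Finset.mem_coe, Finset.mem_filter]
    exact ⟨Finset.mem_univ _, z.2, by rw [Subgroup.orderOf_coe]; exact hz.2⟩
  have hcover : S.card ≤ m * (2 * Nat.card (Cfsg.Out T)) := by
    refine card_le_of_cover (k := 2) ![x, y] S ?_ ?_
    · intro z hz
      rw [Finset.mem_filter] at hz
      rcases hxy z hz.2.2 with h6 | h6
      · exact ⟨0, h6⟩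
      · exact ⟨1, h6⟩
    · intro z hz S' hS'
      rw [Finset.mem_filter] at hz
      -- the element of order `v`
      obtain ⟨n, hn⟩ := hz.2.2
      have hn0 : n ≠ 0 := by
        rintro rfl
        rw [mul_zero] at hn
        exact (orderOf_pos z).ne' hn
      have ha : orderOf (z ^ n) = v := by
        rw [orderOf_pow' z hn0, hn, Nat.gcd_eq_right (Dvd.intro_left v rfl), Nat.mul_div_cancel _ (Nat.pos_of_ne_zero hn0)]
      have haC : z ^ n ∈ C := pow_mem hz.2.1 n
      have hCa := hcent _ haC ha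
      have hN := Cfsg.Agent.H946.Rad.card_normalizer hv ha (by rw [hCa]; exact h1) (by rw [hCa, hCN]) hK hvK hm hm0 hmv
      -- the map from the cosets
      have hle : C ≤ normalizer (zpowers (z ^ n) : Set T) := by
        rw [← hCa]
        intro b hb
        rw [mem_centralizer_singleton_iff] at hb
        exact mem_normalizer_of (by rw [hb, mul_inv_cancel_right]; exact mem_zpowers _)
      have hwd : ∀ w ∈ S', ∃ g ∈ normalizer (zpowers (z ^ n) : Set T), g * z * g⁻¹ = w := by
        intro w hw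
        obtain ⟨hwS, g, hg⟩ := hS' w hw
        rw [Finset.mem_filter] at hwS
        refine ⟨g, mem_normalizer_of ?_, hg⟩
        have h6 : g * z ^ n * g⁻¹ = w ^ n := by rw [← hg, conj_pow]
        rw [h6]
        refine Cfsg.Agent.H946.Rad.mem_zpowers_of_cyclic h1 haC (pow_mem hwS.2.1 n) ?_
        rw [ha, ← h6, conj_pow, ← ha, pow_orderOf_eq_one, mul_one, mul_inv_cancel]
      choose! g hg using hwd
      have hcardQ : Nat.card (↥(normalizer (zpowers (z ^ n) : Set T)) ⧸
          C.subgroupOf (normalizer (zpowers (z ^ n) : Set T))) = m := by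
        have h7 := Subgroup.card_eq_card_quotient_mul_card_subgroup
          (C.subgroupOf (normalizer (zpowers (z ^ n) : Set T)))
        rw [Nat.card_congr (Subgroup.subgroupOfEquivOfLe hle).toEquiv, hN, hCN, mul_comm N m] at h7
        have hNpos : 0 < N := by rw [← hCN]; exact Nat.card_pos
        exact (Nat.eq_of_mul_eq_mul_right hNpos h7).symm
      rw [← hcardQ, ← Fintype.card_coe S', ← Nat.card_eq_fintype_card]
      refine Nat.card_le_card_of_injective (fun w : ↥S' => (QuotientGroup.mk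
        (⟨g w, (hg w w.2).1⟩ : ↥(normalizer (zpowers (z ^ n) : Set T))) : ↥(normalizer (zpowers (z ^ n) : Set T)) ⧸
          C.subgroupOf (normalizer (zpowers (z ^ n) : Set T)))) ?_
      intro a b hab
      have h9 : (QuotientGroup.mk (⟨g a, (hg a a.2).1⟩ : ↥(normalizer (zpowers (z ^ n) : Set T))) :
          ↥(normalizer (zpowers (z ^ n) : Set T)) ⧸ C.subgroupOf (normalizer (zpowers (z ^ n) : Set T))) =
          QuotientGroup.mk ⟨g b, (hg b b.2).1⟩ := hab
      rw [QuotientGroup.eq, Subgroup.mem_subgroupOf] at h9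
      have h10 : (g a)⁻¹ * g b ∈ C := h9
      have h11 := hcomm _ h10 _ hz.2.1
      apply Subtype.ext
      rw [← (hg a a.2).2, ← (hg b b.2).2]
      calc g a * z * (g a)⁻¹ = g a * (z * ((g a)⁻¹ * g b)) * (g b)⁻¹ := by group
        _ = g a * ((g a)⁻¹ * g b * z) * (g b)⁻¹ := by rw [h11]
        _ = g b * z * (g b)⁻¹ := by group
  have h8 : m * (2 * Nat.card (Cfsg.Out T)) ≤ m * (2 * o) := Nat.mul_le_mul_left _ (Nat.mul_le_mul_left _ hO)
  rw [hCN] at hS
  omega

end Cfsg.Agent.H394.Der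
end

-- part: H394/Der/Str
section
/-!
# The structure of a group with a Sylow subgroup of prime order, with the subgroups (helper394)

* `exists_LR` : the normal closure `L` of a Sylow subgroup of order `p` and `R = O_{p'}(L)`, `L / R` simple;
* `Data.exists_LR`, `okT`, `exists_LR_mem` : the numerical conditions `pass`, with primes not dividing `|R|`;
* `cent_norm_cyc` : the data from `CycCard`;
* `exists_pow_not_conj`.
-/

set_option autoImplicit false

namespace Cfsg.Agent.H394.Der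

open Subgroup Cfsg.Agent.H970.StabK Cfsg.Agent.H970.StabNum Cfsg.Agent.H251.Small Cfsg.Agent.H439.Der
open Cfsg.Agent.H129.CycCard Cfsg.Agent.H129.CycT

universe u

section A

theorem card_sup_dvd {G : Type*} [Group G] [Finite G] (A B : Subgroup G) [B.Normal] :
    Nat.card (A ⊔ B : Subgroup G) ∣ Nat.card A * Nat.card B := by
  have h1 : Nat.card (A ⊔ B : Subgroup G) = Nat.card B * B.relIndex A := by
    rw [← Subgroup.relIndex_sup_right, ← Nat.card_congr (Subgroup.subgroupOfEquivOfLe (le_sup_right : B ≤ A ⊔ B)).toEquiv]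
    exact (Subgroup.card_mul_index _).symm
  rw [h1, mul_comm]
  exact mul_dvd_mul_right (Subgroup.relIndex_dvd_card B A) _

variable {H : Type u} [Group H] [Finite H] {p : ℕ} [hp : Fact p.Prime]

/-- a normal `p'`-subgroup which is maximal among the proper normal subgroups is invariant under automorphisms -/
theorem map_le_of_max {L : Type u} [Group L] [Finite L] {R : Subgroup L} (hRn : R.Normal) (hRp : ¬ p ∣ Nat.card R)
    (hpL : p ∣ Nat.card L) (hmax : ∀ N : Subgroup L, N.Normal → R ≤ N → N = R ∨ N = ⊤) (φ : L ≃* L) :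
    R.map φ.toMonoidHom ≤ R := by
  have hn : (R.map φ.toMonoidHom).Normal := hRn.map _ φ.surjective
  have hc : Nat.card (R.map φ.toMonoidHom) = Nat.card R := (Nat.card_congr (φ.subgroupMap R).toEquiv).symm
  rcases hmax (R ⊔ R.map φ.toMonoidHom) inferInstance le_sup_left with h | h
  · exact le_sup_right.trans h.le
  · exfalso
    have h1 := card_sup_dvd R (R.map φ.toMonoidHom)
    rw [h, Subgroup.card_top, hc] at h1
    rcases (hp.out.dvd_mul.1 (hpL.trans h1)) with h2 | h2 <;> exact hRp h2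

/-- **The structure theorem**, with the subgroups. -/
theorem exists_LR {P : Subgroup H} (hP : Nat.card P = p) (hp2 : ¬ p ^ 2 ∣ Nat.card H) :
    ∃ (L : Subgroup H) (R : Subgroup L) (_ : R.Normal) (m D : ℕ), L.Normal ∧ (R.map L.subtype).Normal ∧ P ≤ L ∧
      ¬ p ∣ Nat.card R ∧ Nat.card H = Nat.card R * Nat.card (L ⧸ R) * L.index ∧ IsSimpleGroup (L ⧸ R) ∧
      p ∣ Nat.card (L ⧸ R) ∧ Nat.card (normalizer (P : Set H)) = L.index * D * (p * m) ∧
      D ∣ Nat.card (centralizer (P : Set H)) ∧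
      (∀ r : ℕ, r.Prime → ∃ j : ℕ, r ^ j ∣ D ∧ r ^ ((Nat.card R).factorization r) ≡ r ^ j [MOD p]) ∧
      ((Nat.card (L ⧸ R) = p ∧ m = 1) ∨ ((¬ ∀ x y : L ⧸ R, x * y = y * x) ∧ 2 ≤ m ∧ p * m ∣ Nat.card (L ⧸ R) ∧
        Nat.card (L ⧸ R) / (p * m) ≡ 1 [MOD p])) ∧
      ∀ r : ℕ, r.Prime → r ∣ Nat.card R → ∃ Q : Subgroup H, Q ≠ ⊥ ∧ IsPGroup r Q ∧ P ≤ normalizer (Q : Set H) := by
  obtain ⟨L, hL, hLn, R, hRn, hRp, hmax⟩ : ∃ L : Subgroup H, L = normalClosure (P : Set H) ∧ L.Normal ∧
      ∃ R : Subgroup L, R.Normal ∧ ¬ p ∣ Nat.card R ∧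
      ∀ N : Subgroup L, N.Normal → R ≤ N → N = R ∨ N = ⊤ :=
    ⟨_, rfl, Subgroup.normalClosure_normal, exists_simple hP hp2⟩
  have hPL : P ≤ L := by rw [hL]; exact Subgroup.subset_normalClosure
  have hcard : Nat.card (P.subgroupOf L) = p := by
    rw [Nat.card_congr (Subgroup.subgroupOfEquivOfLe hPL).toEquiv, hP]
  have hLp2 : ¬ p ^ 2 ∣ Nat.card L := fun h => hp2 (h.trans (Subgroup.card_subgroup_dvd_card L))
  have hpL : p ∣ Nat.card L := by rw [← hcard]; exact Subgroup.card_subgroup_dvd_card _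
  have hLRK : Nat.card L = Nat.card (L ⧸ R) * Nat.card R := Subgroup.card_eq_card_quotient_mul_card_subgroup R
  have hpK : p ∣ Nat.card (L ⧸ R) := by
    rw [hLRK] at hpL
    exact (hp.out.dvd_mul.1 hpL).resolve_right hRp
  have hKp2 : ¬ p ^ 2 ∣ Nat.card (L ⧸ R) := fun h => hLp2 (by rw [hLRK]; exact h.mul_right _)
  have hnt : Nontrivial (L ⧸ R) := by
    by_contra hcon
    rw [not_nontrivial_iff_subsingleton] at hcon
    rw [Nat.card_of_subsingleton (1 : L ⧸ R)] at hpK
    exact hp.out.one_lt.ne' (Nat.dvd_one.1 hpK)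
  have hsimple : IsSimpleGroup (L ⧸ R) := by
    refine ⟨fun N hN => ?_⟩
    have h1 : R ≤ N.comap (QuotientGroup.mk' R) := by
      intro x hx
      rw [Subgroup.mem_comap, QuotientGroup.mk'_apply, (QuotientGroup.eq_one_iff x).2 hx]
      exact N.one_mem
    have h2 : N = (N.comap (QuotientGroup.mk' R)).map (QuotientGroup.mk' R) :=
      (Subgroup.map_comap_eq_self_of_surjective (QuotientGroup.mk'_surjective R) N).symm
    rcases hmax _ (hN.comap _) h1 with h | h
    · left
      rw [h2, h]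
      rw [eq_bot_iff]
      rintro _ ⟨x, hx, rfl⟩
      exact (QuotientGroup.eq_one_iff x).2 hx
    · right
      rw [h2, h]
      exact Subgroup.map_top_of_surjective _ (QuotientGroup.mk'_surjective R)
  have hmapcard : Nat.card ((P.subgroupOf L).map (QuotientGroup.mk' R)) = p := by
    have h1 : Nat.card ((P.subgroupOf L).map (QuotientGroup.mk' R)) ∣ p := by
      have := Subgroup.card_map_dvd (P.subgroupOf L) (QuotientGroup.mk' R)
      rwa [hcard] at this
    rcases (Nat.dvd_prime hp.out).1 h1 with h | h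
    · exfalso
      have h2 : (P.subgroupOf L).map (QuotientGroup.mk' R) = ⊥ := Subgroup.eq_bot_of_card_eq _ h
      rw [Subgroup.map_eq_bot_iff, QuotientGroup.ker_mk'] at h2
      apply hRp
      rw [← hcard]
      exact Subgroup.card_dvd_of_le h2
    · exact h
  have hN1 := card_normalizer_frattini hPL hP hp2
  have hN2 := card_normalizer (R := R) hcard hRp
  set D := Nat.card (R ⊓ normalizer ((P.subgroupOf L : Subgroup L) : Set L) : Subgroup L) with hD
  have hDC : D ∣ Nat.card (centralizer (P : Set H)) := by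
    have h1 : (R ⊓ normalizer ((P.subgroupOf L : Subgroup L) : Set L) : Subgroup L).map L.subtype ≤
        centralizer (P : Set H) := by
      rintro _ ⟨x, hx, rfl⟩
      rw [Subgroup.mem_centralizer_iff]
      intro y hy
      have h2 := comm_of_mem hcard hRp hx.1 hx.2 (y := ⟨y, hPL hy⟩) hy
      exact (congrArg Subtype.val h2).symm
    have h2 := Subgroup.card_dvd_of_le h1
    rwa [Nat.card_congr (Subgroup.equivMapOfInjective _ L.subtype L.subtype_injective).toEquiv.symm] at h2
  have hHc : Nat.card H = Nat.card R * Nat.card (L ⧸ R) * L.index := by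
    rw [← Subgroup.card_mul_index L, hLRK, mul_comm (Nat.card (L ⧸ R))]
  -- `R` is normal in `H`
  have hRH : (R.map L.subtype).Normal := by
    refine ⟨?_⟩
    rintro _ ⟨x, hx, rfl⟩ g
    have h1 := map_le_of_max hRn hRp hpL hmax (MulAut.conjNormal g) ⟨x, hx, rfl⟩
    refine ⟨_, h1, ?_⟩
    simp only [_root_.MulEquiv.toMonoidHom_eq_coe, _root_.MonoidHom.coe_coe, _root_.Subgroup.subtype_apply, _root_.MulAut.conjNormal_apply]
  have hinvS : ∀ r : ℕ, r.Prime → r ∣ Nat.card R →
      ∃ Q : Subgroup H, Q ≠ ⊥ ∧ IsPGroup r Q ∧ P ≤ normalizer (Q : Set H) := by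
    intro r hr hrR
    have := Fact.mk hr
    have hPp : IsPGroup p P := IsPGroup.of_card (n := 1) (by rw [hP, pow_one])
    have hcR : Nat.card (R.map L.subtype) = Nat.card R :=
      (Nat.card_congr (Subgroup.equivMapOfInjective _ L.subtype L.subtype_injective).toEquiv).symm
    obtain ⟨S, hSR, hS, hSi, hinv⟩ := Cfsg.Agent.Classification.QDW.FuCop.exists_inv (D := P)
      (X := R.map L.subtype) hPp (by rw [hcR]; exact hRp) (fun b _ u hu => hRH.conj_mem u hu b) r
    refine ⟨S, ?_, hS, ?_⟩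
    · rintro rfl
      rw [Subgroup.relIndex_bot_left, hcR] at hSi
      exact hSi hrR
    · intro x hx
      rw [Subgroup.mem_normalizer_iff]
      intro y
      constructor
      · exact fun hy => hinv x hx y hy
      · intro hy
        have h1 := hinv x⁻¹ (P.inv_mem hx) _ hy
        have h2 : x⁻¹ * (x * y * x⁻¹) * (x⁻¹)⁻¹ = y := by group
        rwa [h2] at h1
  by_cases hab : ∀ x y : L ⧸ R, x * y = y * x
  · have h4 : (P.subgroupOf L).map (QuotientGroup.mk' R) = ⊤ := by
      have : ((P.subgroupOf L).map (QuotientGroup.mk' R)).Normal := ⟨fun n hn g => by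
        rw [hab g n, mul_inv_cancel_right]; exact hn⟩
      rcases hsimple.eq_bot_or_eq_top_of_normal _ this with h | h
      · rw [h, Subgroup.card_bot] at hmapcard
        exact absurd hmapcard hp.out.one_lt.ne
      · exact h
    refine ⟨L, R, hRn, 1, D, hLn, hRH, hPL, hRp, hHc, hsimple, hpK, ?_, hDC, fun r hr => exists_pow hcard hRp r hr,
      Or.inl ⟨?_, rfl⟩, hinvS⟩
    · rw [hN1, hN2, mul_one, ← mul_assoc]
      congr 1
      have h3 : normalizer (((P.subgroupOf L).map (QuotientGroup.mk' R) : Subgroup (L ⧸ R)) : Set (L ⧸ R)) = ⊤ := by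
        rw [eq_top_iff]
        intro x _
        rw [Subgroup.mem_normalizer_iff]
        intro y
        rw [hab x y, mul_inv_cancel_right]
      rw [h3, ← h4]
      exact hmapcard
    · rw [h4, Subgroup.card_top] at hmapcard
      exact hmapcard
  · obtain ⟨m, hm, hm2, hmd, hmm⟩ := two_le_normalizer hab hmapcard hKp2
    refine ⟨L, R, hRn, m, D, hLn, hRH, hPL, hRp, hHc, hsimple, hpK, ?_, hDC, fun r hr => exists_pow hcard hRp r hr,
      Or.inr ⟨hab, hm2, hmd, hmm⟩, hinvS⟩
    rw [hN1, hN2, ← mul_assoc, hm]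

end A

variable {T : Type u} [Group T]

/-- elements of order `p` normalize no non-trivial `r`-subgroup -/
def NoInv (T : Type u) [Group T] (p r : ℕ) : Prop :=
  r.Prime ∧ ∀ x : T, orderOf x = p → ∀ Q : Subgroup T, IsPGroup r Q → x ∈ normalizer (Q : Set T) → Q = ⊥

/-- **The structure of a subgroup**, with the numerical conditions. -/
theorem exists_LR' {data : List (ℕ × ℕ × ℕ)} {ps tbl : List ℕ} (D : Data T data ps tbl) (H : Subgroup T)
    {p k M : ℕ} (hx : (p, k, M) ∈ data) (hpH : p ∣ Nat.card H) :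
    ∃ (L : Subgroup H) (R : Subgroup L) (_ : R.Normal) (D' : ℕ), L.Normal ∧ (R.map L.subtype).Normal ∧
      Nat.card H = Nat.card R * Nat.card (L ⧸ R) * L.index ∧ IsSimpleGroup (L ⧸ R) ∧
      (Nat.card (L ⧸ R) = p ∨ ¬ ∀ x y : L ⧸ R, x * y = y * x) ∧ p ∣ Nat.card (L ⧸ R) ∧ ¬ p ∣ Nat.card R ∧
      L.index ∈ List.range (M + 1) ∧ Nat.card (L ⧸ R) ∈ p :: tbl ∧ D' ∈ List.range (k + 1) ∧
      pass p k M ps (Nat.card H) L.index (Nat.card (L ⧸ R)) D' = true ∧
      ∀ r, NoInv T p r → ¬ r ∣ Nat.card R := by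
  have hfin := D.fin
  obtain ⟨hpp, hp2, hk0, hk, hM0⟩ := D.prime _ hx
  have hcent := D.cent _ hx
  simp only at hpp hp2 hk0 hk hM0 hcent
  have hfp : Fact p.Prime := ⟨hpp⟩
  obtain ⟨x, hx1⟩ := exists_prime_orderOf_dvd_card' p hpH
  have hP : Nat.card (zpowers x) = p := by rw [Nat.card_zpowers, hx1]
  have hHT : Nat.card H ∣ Nat.card T := Subgroup.card_subgroup_dvd_card H
  have hpH2 : ¬ p ^ 2 ∣ Nat.card H := fun h => hp2 (h.trans hHT)
  obtain ⟨L, R, hRn, m, D', hLn, hRH, hPL, hpR, h1, hsim, hps, h3, h4, h5, h6, h7⟩ := exists_LR hP hpH2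
  have hHpos : 0 < Nat.card H := Nat.card_pos
  obtain ⟨a, ha⟩ : ∃ a, a = Nat.card R := ⟨_, rfl⟩
  obtain ⟨s, hs⟩ : ∃ s, s = Nat.card (L ⧸ R) := ⟨_, rfl⟩
  obtain ⟨c, hc⟩ : ∃ c, c = L.index := ⟨_, rfl⟩
  have h1' := h1
  rw [← ha, ← hs, ← hc] at h1'
  rw [← hc] at h3
  have ha0 : a ≠ 0 := by rintro rfl; simp only [_root_.MulZeroClass.zero_mul] at h1'; omega
  have hs0 : s ≠ 0 := by rintro rfl; simp only [_root_.MulZeroClass.mul_zero, _root_.MulZeroClass.zero_mul] at h1'; omega
  have hc0 : c ≠ 0 := by rintro rfl; simp at h1'; omega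
  have hPT : Nat.card ((zpowers x).map H.subtype) = p := by
    rw [← hP]
    exact (Nat.card_congr ((zpowers x).equivMapOfInjective _ H.subtype_injective).toEquiv).symm
  obtain ⟨hC, hN⟩ := hcent _ hPT
  have hcH : Nat.card (centralizer ((zpowers x : Subgroup H) : Set H)) ∣
      Nat.card (centralizer (((zpowers x).map H.subtype : Subgroup T) : Set T)) := by
    have hle : (centralizer ((zpowers x : Subgroup H) : Set H)).map H.subtype ≤
        centralizer (((zpowers x).map H.subtype : Subgroup T) : Set T) := by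
      rintro _ ⟨y, hy, rfl⟩
      rw [Subgroup.mem_centralizer_iff]
      rintro _ ⟨z, hz, rfl⟩
      exact congrArg Subtype.val (Subgroup.mem_centralizer_iff.1 hy z hz)
    have h7 := Subgroup.card_dvd_of_le hle
    rwa [Nat.card_congr (Subgroup.equivMapOfInjective _ H.subtype H.subtype_injective).toEquiv.symm] at h7
  have hnH' : Nat.card (normalizer ((zpowers x : Subgroup H) : Set H)) ∣
      Nat.card (normalizer (((zpowers x).map H.subtype : Subgroup T) : Set T)) := by
    have hle : (normalizer ((zpowers x : Subgroup H) : Set H)).map H.subtype ≤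
        normalizer (((zpowers x).map H.subtype : Subgroup T) : Set T) := by
      have h8 := Subgroup.le_normalizer_map (H := zpowers x) H.subtype
      exact h8
    have h7 := Subgroup.card_dvd_of_le hle
    rwa [Nat.card_congr (Subgroup.equivMapOfInjective _ H.subtype H.subtype_injective).toEquiv.symm] at h7
  have hDk : D' ∣ k := by
    have h8 : D' ∣ p * k := (h4.trans hcH).trans hC
    have h9 : Nat.Coprime D' p := by
      rw [Nat.coprime_comm, hpp.coprime_iff_not_dvd]
      intro hpD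
      have h10 : p ^ 2 ∣ Nat.card H := by
        have h11 : p ^ 2 ∣ c * D' * (p * m) := by
          obtain ⟨e, he⟩ := hpD
          exact ⟨c * e * m, by rw [he]; ring⟩
        rw [← h3] at h11
        exact h11.trans (Subgroup.card_subgroup_dvd_card _)
      exact hpH2 h10
    exact h9.dvd_of_dvd_mul_left h8
  have hcDm : c * D' * m ∣ M := by
    have h8 : c * D' * (p * m) ∣ p * M := by rw [← h3]; exact hnH'.trans hN
    have h9 : p * (c * D' * m) ∣ p * M := by
      have : c * D' * (p * m) = p * (c * D' * m) := by ring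
      rwa [this] at h8
    exact Nat.dvd_of_mul_dvd_mul_left hpp.pos h9
  have hD0 : D' ≠ 0 := by rintro rfl; simp at hDk; omega
  have hm0 : m ≠ 0 := by
    rintro rfl
    simp at hcDm
    omega
  have hcD : c * D' ∣ M := (Dvd.intro m rfl).trans hcDm
  have hcM : c ∣ M := (Dvd.intro D' rfl).trans hcD
  have hDM : D' ≤ k := Nat.le_of_dvd hk0 hDk
  have hcle : c ≤ M := Nat.le_of_dvd hM0 hcM
  have hmle : m ≤ M := Nat.le_of_dvd hM0 ((Dvd.intro_left (c * D') rfl).trans hcDm)
  have e1 : Nat.card H / c = a * s := by rw [h1']; exact Nat.mul_div_cancel _ (Nat.pos_of_ne_zero hc0)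
  have e2 : Nat.card H / c / s = a := by rw [e1]; exact Nat.mul_div_cancel _ (Nat.pos_of_ne_zero hs0)
  have halt : a < 2 ^ 80 := by
    have h8 : a ≤ Nat.card T := Nat.le_of_dvd Nat.card_pos
      ((Dvd.intro (s * c) (by rw [h1']; ring)).trans hHT)
    exact lt_of_le_of_lt h8 D.lt
  have hsmem : s ∈ p :: tbl := by
    rcases h6 with ⟨h6, -⟩ | ⟨hna, _⟩
    · rw [hs, h6]; exact List.mem_cons_self
    · refine List.mem_cons_of_mem _ ?_
      rw [hs]
      refine D.tbl (L ⧸ R) hsim hna ?_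
      rw [← hs]
      exact (Dvd.intro (a * c) (by rw [h1']; ring)).trans hHT
  have hpass : pass p k M ps (Nat.card H) c s D' = true := by
    unfold H251.Small.pass
    refine bandI (by rw [Nat.blt_eq]; omega) (bandI (beqI (Nat.mod_eq_zero_of_dvd hcM))
      (bandI (beqI (Nat.mod_eq_zero_of_dvd ⟨a * s, by rw [h1']; ring⟩)) ?_))
    refine bandI (beqI (Nat.mod_eq_zero_of_dvd (hs ▸ hps))) (bandI (beqI ?_) ?_)
    · rw [e1]; exact Nat.mul_mod_left _ _
    refine bandI (by rw [Nat.blt_eq]; omega) (bandI (beqI (Nat.mod_eq_zero_of_dvd hDk))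
      (bandI (beqI (Nat.mod_eq_zero_of_dvd hcD)) ?_))
    rw [e2]
    refine bandI ?_ (bandI ?_ ?_)
    · have : a % p ≠ 0 := fun h => hpR (ha ▸ Nat.dvd_of_mod_eq_zero h)
      simpa using this
    · rw [List.all_eq_true]
      intro r hr
      obtain ⟨j, hj1, hj2⟩ := h5 r (D.ps r hr)
      have hr1 := D.ps r hr
      unfold okr
      simp only
      rw [pp_eq hr1 80 a ha0 halt, List.any_eq_true]
      rw [← ha] at hj2
      refine ⟨j, List.mem_range.2 ?_, bandI (beqI (Nat.mod_eq_zero_of_dvd hj1)) (beqI hj2)⟩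
      by_contra hcon
      push Not at hcon
      have h9 : 2 ^ 8 ≤ r ^ j :=
        (Nat.pow_le_pow_left hr1.two_le 8).trans (Nat.pow_le_pow_right hr1.pos hcon)
      have h10 := Nat.le_of_dvd (Nat.pos_of_ne_zero hD0) hj1
      norm_num at h9
      omega
    · rcases h6 with ⟨h6, -⟩ | ⟨_, hm2, hmd, hmm⟩
      · rw [hs, h6]; simp
      · rw [Bool.or_eq_true]
        right
        unfold okm
        rw [List.any_eq_true]
        rw [← hs] at hmd hmm
        exact ⟨m, List.mem_range.2 (by omega), bandI (by rw [Nat.ble_eq]; exact hm2)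
          (bandI (beqI (Nat.mod_eq_zero_of_dvd hcDm)) (bandI (beqI (Nat.mod_eq_zero_of_dvd hmd)) (beqI hmm)))⟩
  refine ⟨L, R, hRn, D', hLn, hRH, h1, hsim, ?_, hps, hpR, ?_, ?_, List.mem_range.2 (by omega), ?_, ?_⟩
  · rcases h6 with ⟨h6, -⟩ | ⟨h6, -⟩
    · exact Or.inl h6
    · exact Or.inr h6
  · rw [← hc]; exact List.mem_range.2 (by omega)
  · rw [← hs]; exact hsmem
  · rw [← hc, ← hs]; exact hpass
  · intro r hr hrR
    obtain ⟨Q, hQ1, hQ2, hQ3⟩ := h7 r hr.1 hrR
    apply hQ1
    have h8 : Q.map H.subtype = ⊥ := by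
      refine hr.2 x (by rw [Subgroup.orderOf_coe, hx1]) _ ?_ ?_
      · exact hQ2.map H.subtype
      · have h9 := Subgroup.le_normalizer_map (H := Q) H.subtype
        exact h9 ⟨x, hQ3 (mem_zpowers x), rfl⟩
    rwa [Subgroup.map_eq_bot_iff_of_injective _ H.subtype_injective] at h8

/-- the possible triples `(h, c, s)` -/
def okT (p k M : ℕ) (ps tbl : List ℕ) (bad : List ℕ) (l : List (ℕ × ℕ)) : List (ℕ × ℕ × ℕ) :=
  (divs l).flatMap fun h => if Nat.beq (h % p) 0 then
    ((List.range (M + 1)).flatMap fun c => ((p :: tbl).filter fun s =>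
      (List.range (k + 1)).any fun D => pass p k M ps h c s D &&
        bad.all fun r => !(Nat.beq (h / c / s % r) 0)).map fun s => (h, c, s)) else []

theorem exists_LR_mem {data : List (ℕ × ℕ × ℕ)} {ps tbl : List ℕ} (D : Data T data ps tbl) (H : Subgroup T)
    {p k M : ℕ} (hx : (p, k, M) ∈ data) (hpH : p ∣ Nat.card H) {bad : List ℕ} (hbad : ∀ r ∈ bad, NoInv T p r)
    {l : List (ℕ × ℕ)} (hv : OrdDiv.valid l (Nat.card T) = true) {out : List (ℕ × ℕ × ℕ)}
    (hout : ((okT p k M ps tbl bad l).all fun t => out.contains t) = true) :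
    ∃ (L : Subgroup H) (R : Subgroup L) (_ : R.Normal), L.Normal ∧ (R.map L.subtype).Normal ∧
      Nat.card H = Nat.card R * Nat.card (L ⧸ R) * L.index ∧ IsSimpleGroup (L ⧸ R) ∧
      (Nat.card (L ⧸ R) = p ∨ ¬ ∀ x y : L ⧸ R, x * y = y * x) ∧
      (Nat.card H, L.index, Nat.card (L ⧸ R)) ∈ out := by
  have hfin := D.fin
  obtain ⟨L, R, hRn, D', hLn, hRH, h1, hsim, h2, hps, hpR, hc, hs, hD, hpass, hb⟩ := exists_LR' D H hx hpH
  refine ⟨L, R, hRn, hLn, hRH, h1, hsim, h2, ?_⟩
  rw [List.all_eq_true] at hout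
  rw [← List.contains_iff_mem]
  refine hout _ ?_
  unfold okT
  rw [List.mem_flatMap]
  refine ⟨Nat.card H, mem_divs_of_valid hv (Subgroup.card_subgroup_dvd_card H), ?_⟩
  rw [if_pos (by rw [Nat.beq_eq]; exact Nat.mod_eq_zero_of_dvd hpH), List.mem_flatMap]
  refine ⟨_, hc, ?_⟩
  rw [List.mem_map]
  refine ⟨_, ?_, rfl⟩
  rw [List.mem_filter]
  refine ⟨hs, ?_⟩
  rw [List.any_eq_true]
  refine ⟨D', hD, ?_⟩
  rw [hpass, Bool.true_and, List.all_eq_true]
  intro r hr
  have h3 : Nat.card H / L.index / Nat.card (L ⧸ R) = Nat.card R := by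
    rw [h1, Nat.mul_div_cancel _ (Nat.pos_of_ne_zero Subgroup.index_ne_zero_of_finite),
      Nat.mul_div_cancel _ Nat.card_pos]
  rw [h3]
  have h4 := hb r (hbad r hr)
  have h5 : Nat.card R % r ≠ 0 := fun h => h4 (Nat.dvd_of_mod_eq_zero h)
  cases h6 : Nat.beq (Nat.card R % r) 0
  · rfl
  · exact absurd (Nat.eq_of_beq_eq_true h6) h5

end Cfsg.Agent.H394.Der
end

-- part: H394/Der/Tw
section
/-!
# Non-conjugate powers; the normalisers from `CycCard` (helper394)
-/

set_option autoImplicit false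

namespace Cfsg.Agent.H394.Der

open Subgroup Cfsg.Agent.H439.Der Cfsg.Agent.H129.CycT Cfsg.Agent.H129.CycCard

variable {T : Type*} [Group T]

theorem exists_pow_not_conj [Finite T] {x : T} {n : ℕ} (hx : orderOf x = n) (hc : Nat.card (conjPow x) < n.totient) :
    ∃ y : T, orderOf y = n ∧ ∀ g : T, g * x * g⁻¹ ≠ y := by
  classical
  have := Fintype.ofFinite T
  by_contra hcon
  push Not at hcon
  have h1 : n.totient ≤ Nat.card (conjPow x) := by
    have h2 : n ∣ Fintype.card ↥(zpowers x) := by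
      rw [← Nat.card_eq_fintype_card, Nat.card_zpowers, hx]
    have h3 := IsCyclic.card_orderOf_eq_totient (α := ↥(zpowers x)) h2
    rw [← h3, ← Fintype.card_coe, ← Nat.card_eq_fintype_card]
    refine Nat.card_le_card_of_injective (fun z => ⟨((z : ↥(zpowers x)) : T), (z : ↥(zpowers x)).2, ?_⟩) ?_
    · have h4 := z.2
      rw [Finset.mem_filter] at h4
      obtain ⟨g, hg⟩ := hcon ((z : ↥(zpowers x)) : T) (by rw [Subgroup.orderOf_coe]; exact h4.2)
      exact ⟨g, hg⟩
    · intro a b hab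
      have h4 := congrArg Subtype.val hab
      exact Subtype.ext (Subtype.ext h4)
  omega

/-- centralisers and normalisers of the elements of order `v` -/
theorem card_cent_norm [Finite T] {v N K m : ℕ} (hv : v.Prime) (h : CycCard T v N 1) (hK : Nat.card T = N * K)
    (hvK : ¬ v ∣ K) (hm : K ≡ m [MOD v]) (hm0 : 0 < m) (hmv : m < v) {x : T} (hx : orderOf x = v) :
    Nat.card (centralizer ({x} : Set T)) = N ∧ IsCyclic (centralizer ({x} : Set T)) ∧
      Nat.card (normalizer (zpowers x : Set T)) = N * m := by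
  have hcyc := h.cycAt.isCyclic hv hx
  obtain ⟨C, h1, h2, h3, h4, h5⟩ := h
  rw [one_mul] at h3
  have hCN : Nat.card C = N := Nat.dvd_antisymm h2 h3
  obtain ⟨f, hf⟩ := exists_hom h1 hv h4 h5 hx
  have h6 : Nat.card (centralizer ({x} : Set T)) = N := by
    rw [Nat.card_congr (Equiv.ofBijective f hf), hCN]
  exact ⟨h6, hcyc, Cfsg.Agent.H946.Rad.card_normalizer hv hx hcyc h6 hK hvK hm hm0 hmv⟩

/-- elements whose order is divisible by `v` : at most `m` conjugates in the cyclic group generated -/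
theorem card_conjPow_le [Finite T] {v N K m : ℕ} (hv : v.Prime) (h : CycCard T v N 1) (hK : Nat.card T = N * K)
    (hvK : ¬ v ∣ K) (hm : K ≡ m [MOD v]) (hm0 : 0 < m) (hmv : m < v) {x : T} (hx : orderOf x = N) :
    Nat.card (conjPow x) ≤ m := by
  have hvN : v ∣ N := by
    obtain ⟨C, h1, h2, h3, h4, h5⟩ := h
    exact h4.trans h2
  obtain ⟨e, he⟩ := hvN
  have hN : 0 < N := by rw [← hx]; exact orderOf_pos x
  have he0 : e ≠ 0 := by rintro rfl; rw [mul_zero] at he; omega
  have ho : orderOf (x ^ e) = v := by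
    rw [orderOf_pow' x he0, hx, he, Nat.gcd_eq_right (Dvd.intro_left v rfl), Nat.mul_div_cancel _ (Nat.pos_of_ne_zero he0)]
  obtain ⟨h1, -, h2⟩ := card_cent_norm hv h hK hvK hm hm0 hmv ho
  have hC : Nat.card (centralizer ({x} : Set T)) = N := by
    refine le_antisymm ?_ ?_
    · rw [← h1]
      refine Subgroup.card_le_of_le ?_
      intro g hg
      rw [mem_centralizer_singleton_iff] at hg ⊢
      exact Commute.pow_right hg e
    · rw [← hx, ← Nat.card_zpowers]
      refine Subgroup.card_le_of_le ?_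
      rw [zpowers_le, mem_centralizer_singleton_iff]
  have h3 := card_conjPow_mul x
  have hle : normalizer (zpowers x : Set T) ≤ normalizer (zpowers (x ^ e) : Set T) := by
    intro g hg
    apply mem_normalizer_of
    have h4 : g * x * g⁻¹ ∈ zpowers x := (mem_normalizer_iff.1 hg x).1 (mem_zpowers x)
    obtain ⟨k, hk⟩ := mem_zpowers_iff.1 h4
    have h6 : (x ^ k) ^ e = (x ^ e) ^ k := by
      rw [← zpow_natCast, ← zpow_mul, mul_comm, zpow_mul, zpow_natCast]
    rw [← conj_pow, ← hk, h6]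
    exact zpow_mem_zpowers _ _
  have h5 := Subgroup.card_le_of_le hle
  rw [← h3, hC, h2, mul_comm N m] at h5
  exact Nat.le_of_mul_le_mul_right h5 hN

/-- the data for the structure theorems -/
theorem cent_norm_cyc [Finite T] {v N K m k M : ℕ} (hv : v.Prime) (h : CycCard T v N 1) (hK : Nat.card T = N * K)
    (hvK : ¬ v ∣ K) (hm : K ≡ m [MOD v]) (hm0 : 0 < m) (hmv : m < v) (hk : N = v * k) (hM : N * m = v * M)
    (P : Subgroup T) (hP : Nat.card P = v) :
    Nat.card (centralizer (P : Set T)) ∣ v * k ∧ Nat.card (normalizer (P : Set T)) ∣ v * M := by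
  have := Fact.mk hv
  have hcyc : IsCyclic P := isCyclic_of_prime_card hP
  obtain ⟨a, rfl⟩ : ∃ a : T, P = zpowers a := by
    obtain ⟨g, hg⟩ := hcyc.exists_generator
    refine ⟨g, ?_⟩
    ext y
    constructor
    · intro hy
      obtain ⟨i, hi⟩ := mem_zpowers_iff.1 (hg ⟨y, hy⟩)
      exact mem_zpowers_iff.2 ⟨i, by simpa using congrArg Subtype.val hi⟩
    · intro hy
      exact (zpowers_le.2 g.2) hy
  have ho : orderOf a = v := by rw [← Nat.card_zpowers, hP]
  obtain ⟨h1, -, h2⟩ := card_cent_norm hv h hK hvK hm hm0 hmv ho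
  have hce : centralizer (zpowers a : Set T) = centralizer ({a} : Set T) := by
    ext y
    rw [mem_centralizer_singleton_iff, mem_centralizer_iff]
    constructor
    · intro h3
      exact (h3 a (mem_zpowers _)).symm
    · rintro h3 z hzz
      obtain ⟨i, rfl⟩ := mem_zpowers_iff.1 hzz
      exact ((Commute.zpow_right (show Commute y a from h3) i).eq).symm
  rw [hce, h1, ← hk, h2, ← hM]
  exact ⟨dvd_rfl, dvd_rfl⟩

end Cfsg.Agent.H394.Der
end

-- part: H394/Der/Gen
section
/-!
# General tools for the small groups (helper394)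

* `ThreeT.of_two`, `noOne_of_two`, `noSyl_of_two`;
* `ord_quot` : orders of elements in the simple section;
* `kill8` : `L / R` simple of order at least `343`, `|R| = 8`: an element of order `7` commutes with an involution.
-/

set_option autoImplicit false

namespace Cfsg.Agent.H394.Der

open Subgroup Cfsg.Agent.H439.Der Cfsg.Agent.H58.Rec

universe u

theorem ThreeT.of_two {T : Type*} [Group T] {R : Subgroup T} {v : ℕ} {x y z : T} (hv : ¬ v ∣ Nat.card R)
    (hx : v ∣ orderOf x) (hy : v ∣ orderOf y) (hxy : ∀ g : T, g * x * g⁻¹ ≠ y) (hz : ∀ g : T, g * z * g⁻¹ ∉ R)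
    (hvz : ¬ v ∣ orderOf z) : ThreeT T R :=
  ⟨x, y, z, fun g => not_mem_of_dvd hv hx (MulAut.conj g), fun g => not_mem_of_dvd hv hy (MulAut.conj g), hz, hxy,
    fun g h => hvz (by rw [← h, orderOf_conj]; exact hx), fun g h => hvz (by rw [← h, orderOf_conj]; exact hy)⟩

theorem TwoT.of_not_dvd' {T : Type*} [Group T] {R : Subgroup T} {v : ℕ} {x y : T} (hv : ¬ v ∣ Nat.card R)
    (hx : v ∣ orderOf x) (hy : v ∣ orderOf y) (hxy : ∀ g : T, g * x * g⁻¹ ≠ y) : TwoT T R :=
  ⟨x, y, fun g => not_mem_of_dvd hv hx (MulAut.conj g), fun g => not_mem_of_dvd hv hy (MulAut.conj g), hxy⟩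

theorem two_dvd_index {T : Type*} [Group T] [Finite T] {R : Subgroup T} {p e : ℕ} (hp : p.Prime) (hT : p ^ e ∣ Nat.card T)
    (hR : ¬ p ^ e ∣ Nat.card R) : p ∣ R.index := by
  by_contra h
  apply hR
  have h1 : (p ^ e).Coprime R.index := Nat.Coprime.pow_left e ((Nat.Prime.coprime_iff_not_dvd hp).2 h)
  rw [← Subgroup.card_mul_index R] at hT
  exact h1.dvd_of_dvd_mul_right hT

theorem noOne_of_two {T : Type*} [Group T] [Finite T] {R : Subgroup T} (hO : Nat.card (Cfsg.Out T) = 2) {e : ℕ}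
    (hT : 2 ^ e ∣ Nat.card T) (hR : ¬ 2 ^ e ∣ Nat.card R) : NoOne T R := by
  intro s hs hd h1
  rw [hO] at hd
  have h2 := (Nat.prime_dvd_prime_iff_eq hs Nat.prime_two).1 hd
  subst h2
  have h3 := two_dvd_index Nat.prime_two hT hR
  have h4 : R.index % 2 = 1 % 2 := h1
  omega

theorem ord_quot {H : Type u} [Group H] [Finite H] {L : Subgroup H} [L.Normal] {R : Subgroup L} [R.Normal] {n : ℕ}
    (hn1 : n.Coprime L.index) (hn2 : n.Coprime (Nat.card R)) {x : H} (hx : orderOf x = n) : ∃ y : L ⧸ R, orderOf y = n := by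
  have h0 : HasOrd H n := ⟨x, hx⟩
  have h6 : HasOrd L n := h0.subgroup_of_coprime L hn1
  refine h6.map_of_coprime (QuotientGroup.mk' R) ?_
  rw [QuotientGroup.ker_mk']
  exact hn2

/-- the structure of a subgroup, with a Boolean condition on `(|H|, |H : L|, |L / R|)` -/
theorem exists_LR_all {T : Type u} [Group T] {data : List (ℕ × ℕ × ℕ)} {ps tbl : List ℕ}
    (D : Cfsg.Agent.H970.StabNum.Data T data ps tbl) (H : Subgroup T)
    {p k M : ℕ} (hx : (p, k, M) ∈ data) (hpH : p ∣ Nat.card H) {bad : List ℕ} (hbad : ∀ r ∈ bad, NoInv T p r)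
    {l : List (ℕ × ℕ)} (hv : OrdDiv.valid l (Nat.card T) = true) {P : ℕ × ℕ × ℕ → Bool}
    (hP : ((okT p k M ps tbl bad l).all P) = true) :
    ∃ (L : Subgroup H) (R : Subgroup L) (_ : R.Normal), L.Normal ∧ (R.map L.subtype).Normal ∧
      Nat.card H = Nat.card R * Nat.card (L ⧸ R) * L.index ∧ IsSimpleGroup (L ⧸ R) ∧
      (Nat.card (L ⧸ R) = p ∨ ¬ ∀ x y : L ⧸ R, x * y = y * x) ∧
      P (Nat.card H, L.index, Nat.card (L ⧸ R)) = true := by
  obtain ⟨L, R, h1, h2, h3, h4, h5, h6, h7⟩ := exists_LR_mem D H hx hpH hbad hv (out := okT p k M ps tbl bad l) (by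
    rw [List.all_eq_true]
    intro t ht
    rw [List.contains_iff_mem]
    exact ht)
  rw [List.all_eq_true] at hP
  exact ⟨L, R, h1, h2, h3, h4, h5, h6, hP _ h7⟩

/-! ### groups of order eight -/

theorem exists_gen {R : Type*} [Group R] (hR : Nat.card R = 8) :
    ∃ f : Fin 3 → {x : R // x ≠ 1}, _root_.Subgroup.closure (Set.range fun i => ((f i : R))) = ⊤ := by
  have hfin : Finite R := Nat.finite_of_card_ne_zero (by rw [hR]; norm_num)
  have hnt : Nontrivial R := by
    rw [← Finite.one_lt_card_iff_nontrivial, hR]; norm_num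
  obtain ⟨a, ha⟩ := exists_ne (1 : R)
  -- a chain of subgroups
  have grow : ∀ (K : Subgroup R) (x : R), K ≤ _root_.Subgroup.closure {x} ⊔ K ∧ x ∈ closure {x} ⊔ K := fun K x =>
    ⟨le_sup_right, (le_sup_left : closure {x} ≤ _) (_root_.Subgroup.subset_closure rfl)⟩
  have next : ∀ K : Subgroup R, ∃ x : R, x ≠ 1 ∧ (closure {x} ⊔ K = ⊤ ∨ 2 * Nat.card K ≤ Nat.card (closure {x} ⊔ K : Subgroup R)) := by
    intro K
    by_cases hK : K = ⊤
    · exact ⟨a, ha, Or.inl (by rw [hK, sup_top_eq])⟩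
    · obtain ⟨x, hx⟩ : ∃ x, x ∉ K := by
        by_contra hcon
        push Not at hcon
        exact hK (eq_top_iff.2 fun y _ => hcon y)
      refine ⟨x, fun h => hx (h ▸ K.one_mem), Or.inr ?_⟩
      obtain ⟨h1, h2⟩ := grow K x
      obtain ⟨c, hc⟩ := Subgroup.card_dvd_of_le h1
      have hpos : 0 < Nat.card K := Nat.card_pos
      have hpos2 : 0 < Nat.card (_root_.Subgroup.closure {x} ⊔ K : Subgroup R) := Nat.card_pos
      have hc0 : c ≠ 0 := by rintro rfl; rw [mul_zero] at hc; omega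
      have hc1 : c ≠ 1 := by
        rintro rfl
        rw [mul_one] at hc
        have h3 := Subgroup.eq_of_le_of_card_ge h1 hc.le
        exact hx (h3 ▸ h2)
      rw [hc, mul_comm]
      exact Nat.mul_le_mul_left _ (by omega)
  obtain ⟨x, hx, h1⟩ := next ⊥
  obtain ⟨y, hy, h2⟩ := next (_root_.Subgroup.closure {x} ⊔ ⊥)
  obtain ⟨z, hz, h3⟩ := next (closure {y} ⊔ (closure {x} ⊔ ⊥))
  refine ⟨![⟨x, hx⟩, ⟨y, hy⟩, ⟨z, hz⟩], ?_⟩
  have hle : closure {z} ⊔ (closure {y} ⊔ (closure {x} ⊔ ⊥)) ≤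
      _root_.Subgroup.closure (Set.range fun i => ((![(⟨x, hx⟩ : {x : R // x ≠ 1}), ⟨y, hy⟩, ⟨z, hz⟩] i : R))) := by
    refine sup_le ?_ (sup_le ?_ (sup_le ?_ bot_le)) <;> rw [closure_le, Set.singleton_subset_iff] <;>
      refine _root_.Subgroup.subset_closure ?_
    · exact ⟨2, rfl⟩
    · exact ⟨1, rfl⟩
    · exact ⟨0, rfl⟩
  rw [eq_top_iff]
  refine le_trans ?_ hle
  rw [top_le_iff]
  rcases h3 with h3 | h3
  · exact h3
  rcases h2 with h2 | h2
  · rw [h2, sup_top_eq]
  rcases h1 with h1 | h1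
  · rw [h1, sup_top_eq, sup_top_eq]
  rw [Subgroup.card_bot] at h1
  apply Subgroup.eq_top_of_card_eq
  have h4 := Nat.le_of_dvd (by rw [hR]; norm_num)
    (Subgroup.card_subgroup_dvd_card (closure {z} ⊔ (closure {y} ⊔ (closure {x} ⊔ ⊥)) : Subgroup R))
  omega

theorem card_mulAut_le {R : Type*} [Group R] (hR : Nat.card R = 8) : Nat.card (MulAut R) ≤ 343 := by
  classical
  have hfin : Finite R := Nat.finite_of_card_ne_zero (by rw [hR]; norm_num)
  have := Fintype.ofFinite R
  obtain ⟨f, hf⟩ := exists_gen hR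
  have h1 : Nat.card (MulAut R) ≤ Nat.card (Fin 3 → {x : R // x ≠ 1}) := by
    refine Nat.card_le_card_of_injective (fun φ i => ⟨φ (f i), fun h => (f i).2 ((map_eq_one_iff φ φ.injective).1 h)⟩) ?_
    intro φ ψ h
    have h2 : φ.toMonoidHom = ψ.toMonoidHom := by
      refine MonoidHom.eq_of_eqOn_dense hf ?_
      rintro _ ⟨i, rfl⟩
      exact congrArg Subtype.val (congrFun h i)
    exact MulEquiv.toMonoidHom_injective h2
  refine h1.trans ?_
  have h2 : Fintype.card {x : R // x ≠ 1} = 7 := by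
    rw [Fintype.card_subtype_compl, Fintype.card_subtype_eq, ← Nat.card_eq_fintype_card, hR]
  rw [Nat.card_eq_fintype_card, Fintype.card_fun, h2, Fintype.card_fin]
  norm_num

/-- a simple group of large order acts trivially on a group of order `8` -/
theorem kill8 {L : Type u} [Group L] [Finite L] {R : Subgroup L} [R.Normal] (hR : Nat.card R = 8)
    (hK : IsSimpleGroup (L ⧸ R)) (hs : 343 < Nat.card (L ⧸ R)) (h7 : 7 ∣ Nat.card (L ⧸ R))
    (hc : ∀ x : L, orderOf x = 7 → ∀ z : L, orderOf z = 2 → x * z ≠ z * x) : False := by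
  have i7 : Fact (Nat.Prime 7) := ⟨by norm_num⟩
  have i2 : Fact (Nat.Prime 2) := ⟨by norm_num⟩
  have hL : Nat.card L = Nat.card (L ⧸ R) * Nat.card R := Subgroup.card_eq_card_quotient_mul_card_subgroup R
  have hker : (MulAut.conjNormal : L →* MulAut R).ker = centralizer (R : Set L) := by
    ext x
    rw [MonoidHom.mem_ker, mem_centralizer_iff]
    constructor
    · intro h z hz
      have h1 := congrArg Subtype.val (DFunLike.congr_fun h ⟨z, hz⟩)
      rw [MulAut.conjNormal_apply] at h1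
      exact (mul_inv_eq_iff_eq_mul.1 h1).symm
    · intro h
      ext z
      rw [MulAut.conjNormal_apply, ← h z z.2, mul_inv_cancel_right]
      rfl
  have hCn : (centralizer (R : Set L)).Normal := by rw [← hker]; infer_instance
  rcases IsSimpleGroup.eq_bot_or_eq_top_of_normal ((centralizer (R : Set L)).map (QuotientGroup.mk' R))
    (hCn.map _ (QuotientGroup.mk'_surjective R)) with h | h
  · rw [Subgroup.map_eq_bot_iff, QuotientGroup.ker_mk'] at h
    have h1 : Nat.card L = Nat.card (centralizer (R : Set L)) * Nat.card (MulAut.conjNormal : L →* MulAut R).range := by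
      rw [← hker, Nat.card_congr (QuotientGroup.quotientKerEquivRange (MulAut.conjNormal : L →* MulAut R)).toEquiv.symm,
        mul_comm]
      exact Subgroup.card_eq_card_quotient_mul_card_subgroup _
    have h2 : Nat.card (centralizer (R : Set L)) ≤ 8 := by rw [← hR]; exact Subgroup.card_le_of_le h
    have hfin : Finite (MulAut R) := Finite.of_injective (fun f : MulAut R => (f : R → R)) DFunLike.coe_injective
    have h3 : Nat.card (MulAut.conjNormal : L →* MulAut R).range ≤ 343 :=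
      (Subgroup.card_le_card_group _).trans (card_mulAut_le hR)
    have h4 := Nat.mul_le_mul h2 h3
    rw [← h1, hL, hR] at h4
    omega
  · have h1 : 7 ∣ Nat.card (centralizer (R : Set L)) := by
      refine h7.trans ?_
      have h2 := Subgroup.card_map_dvd (centralizer (R : Set L)) (QuotientGroup.mk' R)
      rwa [h, Subgroup.card_top] at h2
    obtain ⟨x, hx⟩ := exists_prime_orderOf_dvd_card' 7 h1
    have h2 : 2 ∣ Nat.card R := by rw [hR]; norm_num
    obtain ⟨z, hz⟩ := exists_prime_orderOf_dvd_card' 2 h2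
    refine hc x (by rw [Subgroup.orderOf_coe, hx]) z (by rw [Subgroup.orderOf_coe, hz]) ?_
    exact (mem_centralizer_iff.1 x.2 z z.2).symm

end Cfsg.Agent.H394.Der
end

-- part: H394/Der/SmallK
section
/-!
# Element orders of simple groups of orders 6048, 5616, 20160, 2520 (helper394)
-/

set_option autoImplicit false

namespace Cfsg.Agent.H394.Der

open Cfsg Cfsg.Agent.OrdDiv

universe u

variable {K : Type u} [Group K]

theorem not_orderOf_psu33 {F : Type} [Field F] [Fintype F] (hF : Fintype.card F = 3 ^ 2) (e : K ≃* PSU 3 F 3) (x : K) :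
    orderOf x ≠ 9 := by
  intro h
  have i3 : Fact (Nat.Prime 3) := ⟨Nat.prime_three⟩
  have hc : CharP F 3 := by
    obtain ⟨r, hr⟩ := CharP.exists F
    have hrp : r.Prime := CharP.char_is_prime F r
    obtain ⟨k, -, hk⟩ := FiniteField.card F r
    rw [hF] at hk
    have h1 : 3 ∣ r ^ (k : ℕ) := by rw [← hk]; norm_num
    rw [(Nat.prime_dvd_prime_iff_eq Nat.prime_three hrp).1 (Nat.prime_three.dvd_of_dvd_pow h1)]
    exact hr
  have h1 := S2366.result (F := F) 3 (by norm_num) 3 hF
  have h2 : 9 ∈ Set.range (orderOf : PSU 3 F 3 → ℕ) := ⟨e x, by rw [MulEquiv.orderOf_eq, h]⟩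
  rw [h1] at h2
  simp only [Set.mem_union, Set.mem_setOf_eq] at h2
  revert h2
  decide

theorem charP_of {F : Type} [Field F] [Fintype F] {p n : ℕ} (hp : p.Prime) (hn : n ≠ 0) (hF : Fintype.card F = p ^ n) :
    CharP F p := by
  obtain ⟨r, hr⟩ := CharP.exists F
  have hrp : r.Prime := CharP.char_is_prime F r
  obtain ⟨k, -, hk⟩ := FiniteField.card F r
  rw [hF] at hk
  have h1 : p ∣ r ^ (k : ℕ) := by rw [← hk]; exact dvd_pow_self p hn
  rw [(Nat.prime_dvd_prime_iff_eq hp hrp).1 (hp.dvd_of_dvd_pow h1)]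
  exact hr

theorem not_orderOf_psl33 {F : Type} [Field F] [Fintype F] (hF : Fintype.card F = 3)
    (e : K ≃* Matrix.ProjectiveSpecialLinearGroup (Fin 3) F) (x : K) : orderOf x ≠ 9 ∧ orderOf x ≠ 12 := by
  have i3 : Fact (Nat.Prime 3) := ⟨Nat.prime_three⟩
  have hc : CharP F 3 := charP_of Nat.prime_three one_ne_zero (by rw [hF, pow_one])
  have h1 := S2476.result (F := F) 3
  rw [hF] at h1
  have h2 : orderOf x ∈ Set.range (orderOf : Matrix.ProjectiveSpecialLinearGroup (Fin 3) F → ℕ) :=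
    ⟨e x, by rw [MulEquiv.orderOf_eq]⟩
  rw [h1] at h2
  constructor
  · intro h
    rw [h] at h2
    simp only [Set.mem_setOf_eq] at h2
    revert h2
    decide
  · intro h
    rw [h] at h2
    simp only [Set.mem_setOf_eq] at h2
    revert h2
    decide

theorem not_orderOf_psl34 {F : Type} [Field F] [Fintype F] (hF : Fintype.card F = 4)
    (e : K ≃* Matrix.ProjectiveSpecialLinearGroup (Fin 3) F) (x : K) : orderOf x ≠ 8 ∧ orderOf x ≠ 21 := by
  have i3 : Fact (Nat.Prime 2) := ⟨Nat.prime_two⟩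
  have hc : CharP F 2 := charP_of Nat.prime_two two_ne_zero (by rw [hF]; norm_num)
  have h1 := S2476.result (F := F) 2
  rw [hF] at h1
  have h2 : orderOf x ∈ Set.range (orderOf : Matrix.ProjectiveSpecialLinearGroup (Fin 3) F → ℕ) :=
    ⟨e x, by rw [MulEquiv.orderOf_eq]⟩
  rw [h1] at h2
  constructor
  · intro h
    rw [h] at h2
    simp only [Set.mem_setOf_eq] at h2
    revert h2
    decide
  · intro h
    rw [h] at h2
    simp only [Set.mem_setOf_eq] at h2
    revert h2
    decide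

/-- a permutation of at most `8` points of order divisible by `8` is an `8`-cycle -/
theorem mem_cycleType_of {n : ℕ} (σ : Equiv.Perm (Fin n)) {p k : ℕ} (hp : p.Prime) (h : p ^ k ∣ orderOf σ)
    (hk : k ≠ 0) : ∃ m ∈ σ.cycleType, p ^ k ∣ m := by
  by_contra hcon
  push Not at hcon
  rw [← Equiv.Perm.lcm_cycleType] at h
  have key : ∀ s : Multiset ℕ, p ^ k ∣ s.lcm → (∀ m ∈ s, m ≠ 0) → ∃ m ∈ s, p ^ k ∣ m := by
    intro s
    induction s using Multiset.induction_on with
    | empty =>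
      intro h0 _
      rw [Multiset.lcm_zero] at h0
      have h1 : p ^ k = 1 := Nat.dvd_one.1 (by simpa using h0)
      exact absurd (Nat.pow_eq_one.1 h1) (by
        rintro (h2 | h2)
        · exact hp.one_lt.ne' h2
        · exact hk h2)
    | cons a s ih =>
      intro h0 hne
      rw [Multiset.lcm_cons] at h0
      have ha : a ≠ 0 := hne a (Multiset.mem_cons_self a s)
      have hl : s.lcm ≠ 0 := by
        intro h1
        rw [Multiset.lcm_eq_zero_iff] at h1
        exact hne 0 (Multiset.mem_cons_of_mem h1) rfl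
      have h1 : p ^ k ∣ Nat.lcm a s.lcm := h0
      rw [hp.pow_dvd_iff_le_factorization (Nat.lcm_ne_zero ha hl), Nat.factorization_lcm ha hl, Finsupp.sup_apply,
        le_sup_iff] at h1
      rcases h1 with h1 | h1
      · exact ⟨a, Multiset.mem_cons_self a s, (hp.pow_dvd_iff_le_factorization ha).2 h1⟩
      · obtain ⟨m, hm, hd⟩ := ih ((hp.pow_dvd_iff_le_factorization hl).2 h1)
          fun m hm => hne m (Multiset.mem_cons_of_mem hm)
        exact ⟨m, Multiset.mem_cons_of_mem hm, hd⟩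
  obtain ⟨m, hm, hd⟩ := key _ h fun m hm => by
    have := Equiv.Perm.two_le_of_mem_cycleType hm
    omega
  exact hcon m hm hd

theorem le_of_mem_cycleType {n m : ℕ} {σ : Equiv.Perm (Fin n)} (h : m ∈ σ.cycleType) : m ≤ n := by
  have h1 := Equiv.Perm.sum_cycleType σ
  have h2 := Multiset.single_le_sum (by simp) m h
  have h3 : σ.support.card ≤ n := by
    have := Finset.card_le_univ σ.support
    rwa [Fintype.card_fin] at this
  omega

theorem not_orderOf_perm7 (σ : Equiv.Perm (Fin 7)) : ¬ 8 ∣ orderOf σ := by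
  intro h
  obtain ⟨m, hm, hd⟩ := mem_cycleType_of σ Nat.prime_two (k := 3) (by norm_num; exact h) (by norm_num)
  have h1 := le_of_mem_cycleType hm
  have h2 := Equiv.Perm.two_le_of_mem_cycleType hm
  norm_num at hd
  omega

theorem not_orderOf_alt8 (e : K ≃* ↥(alternatingGroup (Fin 8))) (x : K) : orderOf x ≠ 8 ∧ orderOf x ≠ 21 := by
  obtain ⟨σ, hσ⟩ : ∃ σ : Equiv.Perm (Fin 8), σ = ((e x : ↥(alternatingGroup (Fin 8))) : Equiv.Perm (Fin 8)) := ⟨_, rfl⟩
  have ho : orderOf σ = orderOf x := by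
    rw [hσ, Subgroup.orderOf_coe, MulEquiv.orderOf_eq]
  have hs : Equiv.Perm.sign σ = 1 := by
    rw [hσ]
    exact (e x).2
  have hsum : σ.cycleType.sum ≤ 8 := by
    rw [Equiv.Perm.sum_cycleType]
    have := Finset.card_le_univ σ.support
    rwa [Fintype.card_fin] at this
  constructor
  · intro h
    obtain ⟨m, hm, hd⟩ := mem_cycleType_of σ Nat.prime_two (k := 3) (by rw [ho, h]; norm_num) (by norm_num)
    have h1 := le_of_mem_cycleType hm
    have h2 := Equiv.Perm.two_le_of_mem_cycleType hm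
    norm_num at hd
    have h3 : m = 8 := by omega
    subst h3
    obtain ⟨s, hs'⟩ := Multiset.exists_cons_of_mem hm
    rw [hs', Multiset.sum_cons] at hsum
    have h4 : s = 0 := by
      rw [Multiset.eq_zero_iff_forall_notMem]
      intro a ha
      have h5 := Equiv.Perm.two_le_of_mem_cycleType (σ := σ) (n := a) (by rw [hs']; exact Multiset.mem_cons_of_mem ha)
      have h6 := Multiset.single_le_sum (by simp) a ha
      omega
    rw [h4] at hs'
    rw [Equiv.Perm.sign_of_cycleType, hs'] at hs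
    revert hs
    decide
  · intro h
    obtain ⟨m, hm, hd⟩ := mem_cycleType_of σ (p := 7) (by norm_num) (k := 1) (by rw [ho, h]; norm_num) (by norm_num)
    obtain ⟨m', hm', hd'⟩ := mem_cycleType_of σ (p := 3) (by norm_num) (k := 1) (by rw [ho, h]; norm_num) (by norm_num)
    have h1 := le_of_mem_cycleType hm
    have h2 := Equiv.Perm.two_le_of_mem_cycleType hm
    have h2' := Equiv.Perm.two_le_of_mem_cycleType hm'
    norm_num at hd hd'
    have h3 : m = 7 := by omega
    subst h3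
    obtain ⟨s, hs'⟩ := Multiset.exists_cons_of_mem hm
    rw [hs', Multiset.mem_cons] at hm'
    rcases hm' with rfl | hm'
    · omega
    · rw [hs', Multiset.sum_cons] at hsum
      have h6 := Multiset.single_le_sum (by simp) m' hm'
      omega

section

variable (OT : OrderTable.{u}) (hS : ∀ (X : Type u) [Group X] [Finite X] [IsSimpleGroup X], Cfsg.IsKnownSimple' X)
  [Finite K] (hK : IsSimpleGroup K) (hna : ¬ ∀ x y : K, x * y = y * x)

include OT hS hK hna

theorem ord_6048 (hc : Nat.card K = 6048) (x : K) : orderOf x ≠ 9 := by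
  obtain ⟨g, hg, hr⟩ := exists_real_filter OT (hS K) hna (l := [(2, 5), (3, 3), (7, 1)]) (N := 6048)
    (by decide +kernel) (by rw [hc]) (fun o => o == 6048) (by rw [hc]; rfl)
  rw [show (cands [(2, 5), (3, 3), (7, 1)] 6048).filter (fun g => ordN g == 6048) = [.psu 3 3] by decide +kernel] at hg
  rw [List.mem_singleton] at hg
  subst hg
  obtain ⟨F, _, _, hF, ⟨e⟩⟩ := hr
  exact not_orderOf_psu33 hF e x

theorem ord_5616 (hc : Nat.card K = 5616) (x : K) : orderOf x ≠ 9 ∧ orderOf x ≠ 12 := by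
  obtain ⟨g, hg, hr⟩ := exists_real_filter OT (hS K) hna (l := [(2, 4), (3, 3), (13, 1)]) (N := 5616)
    (by decide +kernel) (by rw [hc]) (fun o => o == 5616) (by rw [hc]; rfl)
  rw [show (cands [(2, 4), (3, 3), (13, 1)] 5616).filter (fun g => ordN g == 5616) = [.psl 3 3] by decide +kernel] at hg
  rw [List.mem_singleton] at hg
  subst hg
  obtain ⟨F, _, _, hF, ⟨e⟩⟩ := hr
  exact not_orderOf_psl33 hF e x

theorem ord_20160 (hc : Nat.card K = 20160) (x : K) : orderOf x ≠ 8 ∧ orderOf x ≠ 21 := by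
  obtain ⟨g, hg, hr⟩ := exists_real_filter OT (hS K) hna (l := [(2, 6), (3, 2), (5, 1), (7, 1)]) (N := 20160)
    (by decide +kernel) (by rw [hc]) (fun o => o == 20160) (by rw [hc]; rfl)
  rw [show (cands [(2, 6), (3, 2), (5, 1), (7, 1)] 20160).filter (fun g => ordN g == 20160) =
    [.alt 8, .psl 4 2, .psl 3 4] by decide +kernel] at hg
  simp only [List.mem_cons, List.not_mem_nil, or_false] at hg
  rcases hg with rfl | rfl | rfl
  · obtain ⟨e⟩ := hr
    exact not_orderOf_alt8 e x
  · obtain ⟨F, _, _, hF, ⟨e⟩⟩ := hr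
    obtain ⟨e'⟩ := S0256.result hF
    exact not_orderOf_alt8 (e.trans e') x
  · obtain ⟨F, _, _, hF, ⟨e⟩⟩ := hr
    exact not_orderOf_psl34 hF e x

theorem alt_2520 (hc : Nat.card K = 2520) : Nonempty (K ≃* ↥(alternatingGroup (Fin 7))) := by
  obtain ⟨g, hg, hr⟩ := exists_real_filter OT (hS K) hna (l := [(2, 3), (3, 2), (5, 1), (7, 1)]) (N := 2520)
    (by decide +kernel) (by rw [hc]) (fun o => o == 2520) (by rw [hc]; rfl)
  rw [show (cands [(2, 3), (3, 2), (5, 1), (7, 1)] 2520).filter (fun g => ordN g == 2520) = [.alt 7]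
    by decide +kernel] at hg
  rw [List.mem_singleton] at hg
  subst hg
  exact hr

/-- the automorphisms of `A₇` of order `8` do not exist -/
theorem aut_2520 (hc : Nat.card K = 2520) (φ : MulAut K) : ¬ 8 ∣ orderOf φ := by
  intro h
  obtain ⟨e⟩ := alt_2520 OT hS hK hna hc
  obtain ⟨σ, hσ⟩ := (S2119.result 7 (by norm_num) (by norm_num)).2 (MulAut.congr e φ)
  have h1 : orderOf σ = orderOf φ := by
    have h2 := orderOf_injective (MulAut.conjNormal : Equiv.Perm (Fin 7) →* MulAut ↥(alternatingGroup (Fin 7)))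
      (S2119.result 7 (by norm_num) (by norm_num)).1 σ
    rw [← h2, hσ]
    exact orderOf_injective (MulAut.congr e).toMonoidHom (MulAut.congr e).injective φ
  exact not_orderOf_perm7 σ (by rw [h1]; exact h)

end

end Cfsg.Agent.H394.Der
end

-- part: H394/Der/NscG2
section
/-!
# One class of derangements: `NSC (G₂(q))`, `q ≥ 5` (helper394, task 2396)
-/

set_option autoImplicit false

namespace Cfsg.Agent.H394.Der

open Subgroup Cfsg Cfsg.Lie Cfsg.Agent.H439.Der Cfsg.Agent.H129.CycT Cfsg.Agent.H129.CycCard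
open Cfsg.Agent.H378.ExcAdj

/-! ### arithmetic -/

theorem ineq {p f : ℕ} (hp : 2 ≤ p) (h5 : 5 ≤ p ^ f) : 12 * f < p ^ f * (p ^ f - 1) := by
  have hmono : ∀ a b : ℕ, a ≤ b → a * (a - 1) ≤ b * (b - 1) := fun a b h => Nat.mul_le_mul h (by omega)
  rcases Nat.lt_or_ge f 3 with h3 | h3
  · interval_cases f
    · rw [pow_zero] at h5; omega
    · exact lt_of_lt_of_le (by norm_num) (hmono 5 _ h5)
    · have hp3 : 3 ≤ p := by
        by_contra h
        have : p = 2 := by omega
        subst this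
        norm_num at h5
      exact lt_of_lt_of_le (by norm_num) (hmono (3 ^ 2) _ (Nat.pow_le_pow_left hp3 2))
  · refine lt_of_lt_of_le ?_ (hmono (2 ^ f) _ (Nat.pow_le_pow_left hp f))
    have h1 : 12 * f < 2 ^ f * 7 ∧ 8 ≤ 2 ^ f := by
      clear h5 hmono
      induction f, h3 using Nat.le_induction with
      | base => norm_num
      | succ n hn ih => rw [pow_succ]; omega
    exact lt_of_lt_of_le h1.1 (Nat.mul_le_mul le_rfl (by omega))

section G2

variable {F : Type} [Field F] [Fintype F]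

instance fin_g2 : Finite ↥(chevG2.group F) := inferInstance

theorem card_g2_N3 {q : ℕ} (hq : Fintype.card F = q) (h1 : 1 ≤ q) :
    Nat.card ↥(chevG2.group F) = (q ^ 2 + q + 1) * (q ^ 6 * (q ^ 2 - 1) * ((q - 1) * (q ^ 3 + 1))) := by
  rw [S1059.result hq]
  have e : q ^ 6 - 1 = (q ^ 2 + q + 1) * ((q - 1) * (q ^ 3 + 1)) := by
    have h6 : 1 ≤ q ^ 6 := Nat.one_le_pow _ _ h1
    zify [h1, h6]; ring
  rw [e]; ring

theorem card_g2_N6 {q : ℕ} (hq : Fintype.card F = q) (h1 : 1 ≤ q) :
    Nat.card ↥(chevG2.group F) = (q ^ 2 - q + 1) * (q ^ 6 * (q ^ 2 - 1) * ((q + 1) * (q ^ 3 - 1))) := by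
  rw [S1059.result hq]
  have e : q ^ 6 - 1 = (q ^ 2 - q + 1) * ((q + 1) * (q ^ 3 - 1)) := by
    have h6 : 1 ≤ q ^ 6 := Nat.one_le_pow _ _ h1
    have h3 : 1 ≤ q ^ 3 := Nat.one_le_pow _ _ h1
    have h0 : q ≤ q ^ 2 := Nat.le_self_pow (by norm_num) q
    zify [h1, h6, h3, h0]; ring
  rw [e]; ring

theorem mod_N3 {q v : ℕ} (h1 : 1 ≤ q) (h : v ∣ q ^ 2 + q + 1) :
    q ^ 6 * (q ^ 2 - 1) * ((q - 1) * (q ^ 3 + 1)) ≡ 6 [MOD v] := by
  rw [← ZMod.natCast_eq_natCast_iff]
  have h0 : (q : ZMod v) ^ 2 + q + 1 = 0 := by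
    have := (ZMod.natCast_eq_zero_iff (q ^ 2 + q + 1) v).2 h
    push_cast at this
    exact this
  push_cast [Nat.one_le_pow 2 q h1, h1]
  generalize (q : ZMod v) = x at h0
  linear_combination (-6 + 6 * x - 6 * x ^ 3 + 6 * x ^ 4 - 5 * x ^ 6 + 4 * x ^ 7 - 2 * x ^ 9 + x ^ 10) * h0

theorem mod_N6 {q v : ℕ} (h1 : 1 ≤ q) (h : v ∣ q ^ 2 - q + 1) :
    q ^ 6 * (q ^ 2 - 1) * ((q + 1) * (q ^ 3 - 1)) ≡ 6 [MOD v] := by
  rw [← ZMod.natCast_eq_natCast_iff]
  have h0 : (q : ZMod v) ^ 2 - q + 1 = 0 := by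
    have := (ZMod.natCast_eq_zero_iff (q ^ 2 - q + 1) v).2 h
    push_cast [Nat.le_self_pow (two_ne_zero) q] at this
    exact this
  push_cast [Nat.one_le_pow 2 q h1, Nat.one_le_pow 3 q h1, h1]
  generalize (q : ZMod v) = x at h0
  linear_combination (-6 - 6 * x + 6 * x ^ 3 + 6 * x ^ 4 - 5 * x ^ 6 - 4 * x ^ 7 + 2 * x ^ 9 + x ^ 10) * h0

end G2

end Cfsg.Agent.H394.Der
end

-- part: H394/Der/NtcG2
section
/-!
# Two classes of derangements: `NTC (G₂(q))`, `q ≥ 5` (helper394, task 2983)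
-/

set_option autoImplicit false

namespace Cfsg.Agent.H394.Der

open Subgroup Cfsg Cfsg.Lie Cfsg.Agent.H439.Der Cfsg.Agent.H129.CycT Cfsg.Agent.H129.CycCard

/-- elements of every order dividing the order of an element -/
theorem exists_of_dvd {T : Type*} [Group T] [Finite T] {n d : ℕ} (h : n ∈ Set.range (orderOf : T → ℕ)) (hd : d ∣ n) :
    ∃ x : T, orderOf x = d := by
  obtain ⟨x, rfl⟩ := h
  obtain ⟨e, he⟩ := hd
  have hpos := orderOf_pos x
  have he0 : e ≠ 0 := by rintro rfl; rw [mul_zero] at he; omega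
  refine ⟨x ^ e, ?_⟩
  rw [orderOf_pow' x he0, he, Nat.gcd_eq_right (Dvd.intro_left d rfl), Nat.mul_div_cancel _ (Nat.pos_of_ne_zero he0)]

theorem ineq2 {p f : ℕ} (hp : 2 ≤ p) (hp3 : p ≠ 3) (h5 : 5 ≤ p ^ f) : 14 * f ≤ p ^ f * (p ^ f - 1) := by
  have hmono : ∀ a b : ℕ, a ≤ b → a * (a - 1) ≤ b * (b - 1) := fun a b h => Nat.mul_le_mul h (by omega)
  rcases Nat.lt_or_ge f 3 with h3 | h3
  · interval_cases f
    · rw [pow_zero] at h5; omega
    · exact le_trans (by norm_num) (hmono 5 _ h5)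
    · have hp3 : 5 ≤ p ∨ p = 4 := by
        by_contra h
        have : p = 2 := by omega
        subst this
        norm_num at h5
      have hp4 : 4 ≤ p := by omega
      exact le_trans (by norm_num) (hmono (4 ^ 2) _ (Nat.pow_le_pow_left hp4 2))
  · refine le_trans ?_ (hmono (2 ^ f) _ (Nat.pow_le_pow_left hp f))
    have h1 : 14 * f ≤ 2 ^ f * 7 ∧ 8 ≤ 2 ^ f := by
      clear h5 hmono
      induction f, h3 using Nat.le_induction with
      | base => norm_num
      | succ n hn ih => rw [pow_succ]; omega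
    exact h1.1.trans (Nat.mul_le_mul le_rfl (by omega))

theorem ineq3 {f : ℕ} (h5 : 2 ≤ f) : 28 * f ≤ 3 ^ f * (3 ^ f - 1) := by
  have h1 : 28 * f ≤ 3 ^ f * 8 ∧ 9 ≤ 3 ^ f := by
    induction f, h5 using Nat.le_induction with
    | base => norm_num
    | succ n hn ih => rw [pow_succ]; omega
  exact h1.1.trans (Nat.mul_le_mul le_rfl (by omega))

section G2

variable {F : Type} [Field F] [Fintype F]

/-- primes dividing `q (q² - 1)` -/
theorem not_SCC_g2_near {p f : ℕ} (hp : p.Prime) (hF : Fintype.card F = p ^ f) (h3 : 3 ≤ p ^ f) {v : ℕ}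
    (hv : v.Prime) (h : v = p ∨ v ∣ (p ^ f) ^ 2 - 1) : ¬ SCC ↥(chevG2.group F) v := by
  have hpF := Fact.mk hp
  have hf0 : f ≠ 0 := by rintro rfl; rw [pow_zero] at h3; omega
  have low := fun {N : ℕ} hN => H161.G2Main.lower (F := F) (N := N) hf0 hF h3 hN
  have e1 := low (N := p * (p ^ f + 1)) (by (clear * - p f v h; tauto))
  have e2 := low (N := p * (p ^ f - 1)) (by (clear * -; tauto))
  have e3 := low (N := p ^ (2 * f) - 1) (by (clear * -; tauto))
  have hpp := hp.two_le
  have hqf : p ^ (2 * f) = (p ^ f) ^ 2 := by rw [← pow_mul, mul_comm]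
  have hpq : p ∣ p ^ f := dvd_pow_self p hf0
  rw [hqf] at e3
  clear low hqf hF
  generalize p ^ f = q at *
  have hfac : q ^ 2 - 1 = (q - 1) * (q + 1) := by
    obtain ⟨k, rfl⟩ : ∃ k, q = k + 1 := ⟨q - 1, by omega⟩
    rw [Nat.add_sub_cancel]
    have : (k + 1) ^ 2 = k * (k + 1 + 1) + 1 := by ring
    omega
  rcases h with rfl | h
  · obtain ⟨x, hx⟩ := exists_of_dvd e1 (dvd_mul_right v _)
    obtain ⟨y, hy⟩ := e2
    obtain ⟨z, hz⟩ := e1
    refine not_SCC_of_orders (x := x) (y := y) (z := z) (by rw [hx]) (by rw [hy]; exact dvd_mul_right _ _)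
      (by rw [hz]; exact dvd_mul_right _ _) ?_ ?_ ?_
    · rw [hx, hy]
      intro h
      have : v * 1 < v * (q - 1) := Nat.mul_lt_mul_of_pos_left (by omega) hv.pos
      omega
    · rw [hx, hz]
      intro h
      have : v * 1 < v * (q + 1) := Nat.mul_lt_mul_of_pos_left (by omega) hv.pos
      omega
    · rw [hy, hz]
      intro h
      have : v * (q - 1) < v * (q + 1) := Nat.mul_lt_mul_of_pos_left (by omega) hv.pos
      omega
  · have hpn : ¬ p ∣ q ^ 2 - 1 := by
      intro h4
      have h5 : p ∣ q ^ 2 := hpq.trans (dvd_pow_self q two_ne_zero)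
      have h6 : 1 ≤ q ^ 2 := Nat.one_le_pow _ _ (by omega)
      have h7 := (Nat.dvd_sub h5 h4)
      rw [Nat.sub_sub_self h6] at h7
      exact hp.one_lt.ne' (Nat.dvd_one.1 h7)
    have h8 : v * p ∈ Set.range (orderOf : ↥(chevG2.group F) → ℕ) := by
      have h9 := h
      rw [hfac] at h9
      rcases hv.dvd_mul.1 h9 with h10 | h10
      · obtain ⟨x, hx⟩ := exists_of_dvd e2 (d := v * p) (by rw [mul_comm v p]; exact Nat.mul_dvd_mul_left p h10)
        exact ⟨x, hx⟩
      · obtain ⟨x, hx⟩ := exists_of_dvd e1 (d := v * p) (by rw [mul_comm v p]; exact Nat.mul_dvd_mul_left p h10)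
        exact ⟨x, hx⟩
    obtain ⟨x, hx⟩ := exists_of_dvd e3 h
    obtain ⟨y, hy⟩ := h8
    obtain ⟨z, hz⟩ := e3
    refine not_SCC_of_orders (x := x) (y := y) (z := z) (by rw [hx]) (by rw [hy]; exact dvd_mul_right _ _)
      (by rw [hz]; exact h) ?_ ?_ ?_
    · rw [hx, hy]
      intro h4
      have : v * 1 < v * p := Nat.mul_lt_mul_of_pos_left (by omega) hv.pos
      omega
    · rw [hx, hz, hfac]
      intro h4
      have h5 : ¬ ((q - 1) * (q + 1)).Prime := Nat.not_prime_mul (by omega) (by omega)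
      exact h5 (h4 ▸ hv)
    · rw [hy, hz]
      intro h4
      exact hpn (h4 ▸ dvd_mul_left p v)

theorem mod_three_of_N3 {q v : ℕ} (hv : v.Prime) (h3 : v ≠ 3) (h : v ∣ q ^ 2 + q + 1) : v % 3 = 1 := by
  have := Fact.mk hv
  have h0 : (q : ZMod v) ^ 2 + q + 1 = 0 := by
    have := (ZMod.natCast_eq_zero_iff (q ^ 2 + q + 1) v).2 h
    push_cast at this
    exact this
  have h1 : (q : ZMod v) ^ 3 = 1 := by linear_combination ((q : ZMod v) - 1) * h0
  have h2 : (q : ZMod v) ≠ 1 := by
    intro h2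
    rw [h2] at h0
    have h4 : ((3 : ℕ) : ZMod v) = 0 := by push_cast; linear_combination h0
    rw [ZMod.natCast_eq_zero_iff] at h4
    exact h3 ((Nat.prime_dvd_prime_iff_eq hv Nat.prime_three).1 h4)
  have h4 : orderOf (q : ZMod v) = 3 := by
    have := Fact.mk Nat.prime_three
    exact orderOf_eq_prime h1 h2
  have h5 : orderOf (q : ZMod v) ∣ v - 1 := by
    refine orderOf_dvd_of_pow_eq_one ?_
    refine ZMod.pow_card_sub_one_eq_one ?_
    intro h6
    rw [h6] at h1
    norm_num at h1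
  rw [h4] at h5
  have := hv.two_le
  omega

theorem mod_three_of_N6 {q v : ℕ} (h1 : 1 ≤ q) (hv : v.Prime) (h3 : v ≠ 3) (h : v ∣ q ^ 2 - q + 1) : v % 3 = 1 := by
  have := Fact.mk hv
  have h0 : (q : ZMod v) ^ 2 - q + 1 = 0 := by
    have := (ZMod.natCast_eq_zero_iff (q ^ 2 - q + 1) v).2 h
    push_cast [Nat.le_self_pow (two_ne_zero) q] at this
    exact this
  have h1' : (-(q : ZMod v)) ^ 3 = 1 := by linear_combination (-(q : ZMod v) - 1) * h0
  have h2 : -(q : ZMod v) ≠ 1 := by
    intro h2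
    have h2' : (q : ZMod v) = -1 := by rw [← h2, neg_neg]
    rw [h2'] at h0
    have h4 : ((3 : ℕ) : ZMod v) = 0 := by push_cast; linear_combination h0
    rw [ZMod.natCast_eq_zero_iff] at h4
    exact h3 ((Nat.prime_dvd_prime_iff_eq hv Nat.prime_three).1 h4)
  have h4 : orderOf (-(q : ZMod v)) = 3 := by
    have := Fact.mk Nat.prime_three
    exact orderOf_eq_prime h1' h2
  have h5 : orderOf (-(q : ZMod v)) ∣ v - 1 := by
    refine orderOf_dvd_of_pow_eq_one ?_
    refine ZMod.pow_card_sub_one_eq_one ?_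
    intro h6
    rw [h6] at h1'
    norm_num at h1'
  rw [h4] at h5
  have := hv.two_le
  omega

theorem odd_N3 (q : ℕ) : (q ^ 2 + q + 1) % 2 = 1 := by
  have h : q % 2 = 0 ∨ q % 2 = 1 := by omega
  rcases h with h | h <;> simp only [Nat.add_mod, Nat.pow_mod, h, _root_.ne_eq, _root_.OfNat.ofNat_ne_zero, _root_.not_false_eq_true, _root_.zero_pow, _root_.Nat.zero_mod, _root_.add_zero, _root_.Nat.mod_succ, _root_.zero_add, _root_.one_pow, _root_.Nat.reduceAdd, _root_.Nat.mod_self]

theorem odd_N6 {q : ℕ} (h1 : 1 ≤ q) : (q ^ 2 - q + 1) % 2 = 1 := by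
  obtain ⟨k, rfl⟩ : ∃ k, q = k + 1 := ⟨q - 1, by omega⟩
  have e : (k + 1) ^ 2 - (k + 1) + 1 = k ^ 2 + k + 1 := by
    have : (k + 1) ^ 2 = k ^ 2 + k + (k + 1) := by ring
    omega
  rw [e]
  exact odd_N3 k

/-- **`NTC (G₂(q))`**, `q ≥ 5` -/
theorem ntc_g2 {p f : ℕ} (hp : p.Prime) (hF : Fintype.card F = p ^ f) (h5 : 5 ≤ p ^ f) :
    NTC ↥(chevG2.group F) := by
  intro v hv hd
  by_cases hnear : v = p ∨ v ∣ (p ^ f) ^ 2 - 1
  · exact not_SCC_g2_near hp hF (by omega) hv hnear
  push Not at hnear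
  have hpF := Fact.mk hp
  have hf0 : f ≠ 0 := by rintro rfl; rw [pow_zero] at h5; omega
  have hch : CharP F p := H161.G2Main.charP_of_card hf0 hF
  obtain ⟨o, hO, ho⟩ : ∃ o : ℕ, Nat.card (Out ↥(chevG2.group F)) ≤ o ∧ 14 * o ≤ p ^ f * (p ^ f - 1) := by
    refine ⟨_, (S2121.result p f hF (by omega)).le, ?_⟩
    split_ifs with h
    · subst h
      have hf2 : 2 ≤ f := by
        by_contra hlt
        have : f = 1 := by omega
        subst this
        norm_num at h5
      have := ineq3 hf2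
      omega
    · exact ineq2 hp.two_le h h5
  have hvp : ¬ v ∣ p ^ f := fun h => hnear.1 ((Nat.prime_dvd_prime_iff_eq hv hp).1 (hv.dvd_of_dvd_pow h))
  obtain ⟨q, hq⟩ : ∃ q, q = p ^ f := ⟨_, rfl⟩
  rw [← hq] at hF h5 ho hvp hnear
  have h1 : 1 ≤ q := by omega
  have h0 : q ≤ q ^ 2 := Nat.le_self_pow (by norm_num) q
  have hqq : q * (q - 1) = q ^ 2 - q := by
    rw [Nat.mul_sub, mul_one, pow_two]
  have hd' := hd
  rw [S1059.result hF] at hd'
  have hcases : v ∣ q ^ 2 + q + 1 ∨ v ∣ q ^ 2 - q + 1 := by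
    have e : q ^ 6 - 1 = (q ^ 2 - 1) * ((q ^ 2 + q + 1) * (q ^ 2 - q + 1)) := by
      have h6 : 1 ≤ q ^ 6 := Nat.one_le_pow _ _ h1
      have h2 : 1 ≤ q ^ 2 := Nat.one_le_pow _ _ h1
      zify [h1, h6, h2, h0]; ring
    rw [e] at hd'
    simp only [hv.dvd_mul] at hd'
    have : ¬ v ∣ q ^ 6 := fun h => hvp (hv.dvd_of_dvd_pow h)
    have := hnear.2
    tauto
  have hq3 : ¬ v ∣ q → (v = 3 → False) := by
    rintro - rfl
    have h3 : q % 3 = 0 ∨ q % 3 = 1 ∨ q % 3 = 2 := by (clear * -; omega)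
    rcases h3 with h3 | h3
    · exact hvp (Nat.dvd_of_mod_eq_zero h3)
    · apply hnear.2
      have h4 : q ^ 2 % 3 = 1 := by rcases h3 with h3 | h3 <;> rw [Nat.pow_mod, h3]
      have : 1 ≤ q ^ 2 := Nat.one_le_pow _ _ h1
      (clear * - h4; omega)
  have hv3 : v ≠ 3 := hq3 hvp
  have hlt : ∀ N : ℕ, 7 ≤ v → q ^ 2 - q + 1 ≤ N → N / v + 6 * (2 * o) < N := by
    intro N h7 hN
    have h8 : N / v ≤ N / 7 := Nat.div_le_div_left h7 (by norm_num)
    omega
  rcases hcases with h | h
  · have h2 := mod_three_of_N3 hv hv3 h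
    have hodd := odd_N3 q
    have hv7 : 7 ≤ v := by
      have := hv.two_le
      have hne4 : v ≠ 4 := by rintro rfl; exact absurd hv (by decide)
      omega
    have hN : ((q ^ 2 + q + 1 : ℕ) : ℤ) = 1 + (q : ℤ) + (q : ℤ) ^ 2 := by push_cast; ring
    have hmod := mod_N3 h1 h
    refine not_SCC_of_card (m := 6) hv
      (card_G2_3 hF hN hv (by rw [← hN]; exact Int.natCast_dvd_natCast.2 h) hv3) (card_g2_N3 hF h1) ?_ hmod
      (by norm_num) (by omega) hO (hlt _ hv7 (by (clear * -; omega)))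
    intro h4
    have h5 := hmod.symm.trans ((Nat.modEq_zero_iff_dvd).2 h4)
    have h6 := Nat.le_of_dvd (by norm_num) ((Nat.modEq_zero_iff_dvd).1 h5)
    omega
  · have h2 := mod_three_of_N6 h1 hv hv3 h
    have hodd := odd_N6 h1
    have hv7 : 7 ≤ v := by
      have := hv.two_le
      have hne4 : v ≠ 4 := by rintro rfl; exact absurd hv (by decide)
      omega
    have hN : ((q ^ 2 - q + 1 : ℕ) : ℤ) = 1 - (q : ℤ) + (q : ℤ) ^ 2 := by push_cast [h0]; ring
    have hmod := mod_N6 h1 h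
    refine not_SCC_of_card (m := 6) hv
      (card_G2_6 hF hN hv (by rw [← hN]; exact Int.natCast_dvd_natCast.2 h) hv3) (card_g2_N6 hF h1) ?_ hmod
      (by norm_num) (by omega) hO (hlt _ hv7 le_rfl)
    intro h4
    have h5 := hmod.symm.trans ((Nat.modEq_zero_iff_dvd).2 h4)
    have h6 := Nat.le_of_dvd (by norm_num) ((Nat.modEq_zero_iff_dvd).1 h5)
    omega

end G2

end Cfsg.Agent.H394.Der
end
end

-- part: H394/Der/G24Tab
section
set_option linter.all false
open scoped Cfsg.Agent.FastGrp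

/-!
# `G₂(4)`: the tables (helper394)
-/

set_option autoImplicit false

namespace Cfsg.Agent.H394.Der.G24

open Cfsg.Agent.OrdDiv Cfsg.Agent.H970.StabK Cfsg.Agent.H970.StabNum Cfsg.Agent.H251.Small

def out7 : List (ℕ × ℕ × ℕ) :=
  [(2520, 1, 2520), (5040, 2, 2520), (7560, 1, 2520), (7560, 3, 2520), (15120, 2, 2520), (15120, 6, 2520),
    (20160, 1, 20160), (40320, 2, 20160), (60480, 1, 20160), (60480, 3, 20160), (120960, 2, 20160),
    (120960, 6, 20160), (604800, 1, 604800)]

/-- the orders of the simple groups whose order divides `|G₂(4)|` -/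
def tb : List ℕ := [60, 360, 2520, 20160, 168, 20160, 60, 20160, 504, 262080, 5616, 360, 9828, 60, 7800, 168, 1092, 62400,
  6048, 251596800, 29120, 17971200, 604800]

theorem tb_eq : (cands [(2, 12), (3, 3), (5, 2), (7, 1), (13, 1)] 251596800).map ordN = tb := by decide +kernel

/-- the same orders, without repetitions -/
def tc : List ℕ := [7, 13, 60, 360, 2520, 20160, 168, 504, 262080, 5616, 9828, 7800, 1092, 62400, 6048, 251596800, 29120,
  17971200, 604800]

theorem okT_all {p k M : ℕ} {ps tbl bad tbs : List ℕ} {l : List (ℕ × ℕ)} {A : ℕ → Bool} {P : ℕ × ℕ × ℕ → Bool}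
    (hs : ∀ s ∈ p :: tbl, s ∈ tbs) (hA : ∀ t, A t.1 = true → P t = true)
    (h : (((divs l).filter fun h => Nat.beq (h % p) 0 && !(A h)).all fun h => (List.range (M + 1)).all fun c =>
      tbs.all fun s => !((List.range (k + 1)).any fun D => pass p k M ps h c s D &&
        bad.all fun r => !(Nat.beq (h / c / s % r) 0)) || P (h, c, s)) = true) :
    (okT p k M ps tbl bad l).all P = true := by
  rw [List.all_eq_true]
  intro t ht
  unfold okT at ht
  obtain ⟨n, hn, hn2⟩ := List.mem_flatMap.1 ht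
  by_cases hnp : Nat.beq (n % p) 0 = true
  · rw [if_pos hnp] at hn2
    obtain ⟨c, hc, hc2⟩ := List.mem_flatMap.1 hn2
    obtain ⟨s, hs2, rfl⟩ := List.mem_map.1 hc2
    obtain ⟨hs3, hs4⟩ := List.mem_filter.1 hs2
    by_cases hAn : A n = true
    · exact hA (n, c, s) hAn
    · rw [List.all_eq_true] at h
      have h1 := h n (List.mem_filter.2 ⟨hn, by rw [hnp, Bool.true_and, Bool.not_eq_true', ← Bool.not_eq_true]; exact hAn⟩)
      rw [List.all_eq_true] at h1
      have h2 := h1 c hc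
      rw [List.all_eq_true] at h2
      have h3 := h2 s (hs s hs3)
      rw [hs4, Bool.not_true, Bool.false_or] at h3
      exact h3
  · rw [if_neg hnp] at hn2
    exact absurd hn2 (List.not_mem_nil)

private theorem okT2 {p k M : ℕ} {ps tbl bad tbs : List ℕ} {l : List (ℕ × ℕ)} {A : ℕ → Bool} {P : ℕ × ℕ × ℕ → Bool}
    (hs : ∀ s ∈ p :: tbl, s ∈ tbs) (hA : ∀ t, A t.1 = true → P t = true)
    (h : (((divs l).filter fun h => Nat.beq (h % p) 0 && !(A h)).all fun h =>
      ((List.range (M + 1)).filter fun c => Nat.blt 0 c && M % c == 0).all fun c => !(h % c == 0) ||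
      (tbs.filter fun s => s % p == 0).all fun s => !(h / c % s == 0) ||
        (!((List.range (k + 1)).any fun D => pass p k M ps h c s D &&
          bad.all fun r => !(Nat.beq (h / c / s % r) 0)) || P (h, c, s))) = true) :
    (okT p k M ps tbl bad l).all P = true := by
  refine okT_all hs hA
    (List.all_eq_true.2 fun n hn => List.all_eq_true.2 fun c hc => List.all_eq_true.2 fun s hs => ?_)
  cases e : (List.range (k + 1)).any fun D => pass p k M ps n c s D && bad.all fun r => !(Nat.beq (n / c / s % r) 0)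
  · rfl
  · obtain ⟨D, -, h1⟩ := List.any_eq_true.1 e
    have h2 : (Nat.blt 0 c && (M % c == 0 && (n % c == 0 && (s % p == 0 && (n / c % s == 0 && _))))) = true :=
      (Bool.and_eq_true_iff.1 h1 :).1
    simp only [Bool.and_eq_true] at h2
    have h3 := List.all_eq_true.1 (List.all_eq_true.1 h n hn) c
      (List.mem_filter.2 ⟨hc, Bool.and_eq_true_iff.2 ⟨h2.1, h2.2.1⟩⟩)
    rw [h2.2.2.1, Bool.not_true, Bool.false_or] at h3
    have h4 := List.all_eq_true.1 h3 s (List.mem_filter.2 ⟨hs, h2.2.2.2.1⟩)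
    rwa [h2.2.2.2.2.1, e, Bool.not_true, Bool.false_or] at h4

theorem tab7' : ((okT 7 3 18 [2, 3, 5, 7] tb [2] [(2, 12), (3, 3), (5, 2), (7, 1), (13, 1)]).all
    fun t => Nat.beq (t.1 % 13) 0 || (!(Nat.beq (t.1 % 5) 0) || out7.contains t)) = true := by
  refine okT2 (tbs := tc) (A := fun h => Nat.beq (h % 13) 0 || !(Nat.beq (h % 5) 0)) (by decide) ?_ (by decide +kernel)
  intro t ht
  simp only [Bool.or_eq_true] at ht ⊢
  rcases ht with h | h
  · exact Or.inl h
  · exact Or.inr (Or.inl h)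

theorem tab13' : ((okT 13 1 6 [2, 3, 5, 7] tb [2] [(2, 12), (3, 3), (5, 2), (7, 1), (13, 1)]).all
    fun t => Nat.beq (t.1 % 7) 0 || !(Nat.beq (t.1 % 4096) 0)) = true := by
  exact okT2 (tbs := tc) (A := fun h => Nat.beq (h % 7) 0 || !(Nat.beq (h % 4096) 0)) (by decide) (fun t ht => ht)
    (by decide +kernel)

theorem tab7 : ((okT 7 3 18 [2, 3, 5, 7] ((cands [(2, 12), (3, 3), (5, 2), (7, 1), (13, 1)] 251596800).map ordN) [2]
    [(2, 12), (3, 3), (5, 2), (7, 1), (13, 1)]).all
    fun t => Nat.beq (t.1 % 13) 0 || (!(Nat.beq (t.1 % 5) 0) || out7.contains t)) = true := by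
  rw [tb_eq]
  exact tab7'

theorem tab13 : ((okT 13 1 6 [2, 3, 5, 7] ((cands [(2, 12), (3, 3), (5, 2), (7, 1), (13, 1)] 251596800).map ordN) [2]
    [(2, 12), (3, 3), (5, 2), (7, 1), (13, 1)]).all
    fun t => Nat.beq (t.1 % 7) 0 || !(Nat.beq (t.1 % 4096) 0)) = true := by
  rw [tb_eq]
  exact tab13'

end Cfsg.Agent.H394.Der.G24
end

-- part: H439/Der/ReduceThree
section
prune_inst 0x20002000490000000018001000000040100000020043000111000502000e104100010e0150200f1211300860000a8070110000090218000020008200400000000402e0c20200100801000040f803180c00000000000000000000000000041000000000000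
set_option linter.all false
open scoped Cfsg.Agent.FastGrp

/-!
# Three classes of derangements (S3502): the reduction
-/

set_option autoImplicit false

namespace Cfsg.Agent.H439.Der

open Subgroup MulAction Cfsg.Agent.H938.Sax

/-- three pairwise non-conjugate elements with `P` -/
theorem three_le {G : Type*} [Group G] [Finite G] {P : G → Prop} {x y z : G} (hx : P x) (hy : P y) (hz : P z)
    (hxy : ∀ g : G, g * x * g⁻¹ ≠ y) (hxz : ∀ g : G, g * x * g⁻¹ ≠ z) (hyz : ∀ g : G, g * y * g⁻¹ ≠ z) :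
    3 ≤ Nat.card {c : ConjClasses G // ∃ g : G, ConjClasses.mk g = c ∧ P g} := by
  classical
  let f : Fin 3 → {c : ConjClasses G // ∃ g : G, ConjClasses.mk g = c ∧ P g} :=
    ![⟨ConjClasses.mk x, x, rfl, hx⟩, ⟨ConjClasses.mk y, y, rfl, hy⟩, ⟨ConjClasses.mk z, z, rfl, hz⟩]
  have key : ∀ u v : G, (∀ g : G, g * u * g⁻¹ ≠ v) → ConjClasses.mk u ≠ ConjClasses.mk v := by
    intro u v h h1
    rw [ConjClasses.mk_eq_mk_iff_isConj, isConj_iff] at h1
    obtain ⟨c, hc⟩ := h1
    exact h c hc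
  have hf : Function.Injective f := by
    intro i j hij
    have h1 := congrArg Subtype.val hij
    fin_cases i <;> fin_cases j <;> first | rfl | skip
    · exact absurd h1 (key _ _ hxy)
    · exact absurd h1 (key _ _ hxz)
    · exact absurd h1.symm (key _ _ hxy)
    · exact absurd h1 (key _ _ hyz)
    · exact absurd h1.symm (key _ _ hxz)
    · exact absurd h1.symm (key _ _ hyz)
  have := Nat.card_le_card_of_injective f hf
  simpa only [_root_.ge_iff_le, _root_.Nat.card_eq_fintype_card, _root_.Fintype.card_fin] using this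

theorem two_le {G : Type*} [Group G] [Finite G] {P : G → Prop} {x y : G} (hx : P x) (hy : P y) 
    (hxy : ∀ g : G, g * x * g⁻¹ ≠ y) :
    2 ≤ Nat.card {c : ConjClasses G // ∃ g : G, ConjClasses.mk g = c ∧ P g} := by
  classical
  let f : Fin 2 → {c : ConjClasses G // ∃ g : G, ConjClasses.mk g = c ∧ P g} :=
    ![⟨ConjClasses.mk x, x, rfl, hx⟩, ⟨ConjClasses.mk y, y, rfl, hy⟩]
  have key : ∀ u v : G, (∀ g : G, g * u * g⁻¹ ≠ v) → ConjClasses.mk u ≠ ConjClasses.mk v := by
    intro u v h h1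
    rw [ConjClasses.mk_eq_mk_iff_isConj, isConj_iff] at h1
    obtain ⟨c, hc⟩ := h1
    exact h c hc
  have hf : Function.Injective f := by
    intro i j hij
    have h1 := congrArg Subtype.val hij
    fin_cases i <;> fin_cases j <;> first | rfl | skip
    · exact absurd h1 (key _ _ hxy)
    · exact absurd h1.symm (key _ _ hxy)
  have := Nat.card_le_card_of_injective f hf
  simpa only [_root_.ge_iff_le, _root_.Nat.card_eq_fintype_card, _root_.Fintype.card_fin] using this

section

variable {G : Type*} [Group G] [Finite G] {Ω : Type*} [Finite Ω] [MulAction G Ω] {T : Subgroup G}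

/-- the situation of S3502 -/
structure Sit3 (G : Type*) [Group G] (Ω : Type*) [MulAction G Ω] (T : Subgroup G) : Prop where
  normal : T.Normal
  simple : IsSimpleGroup T
  nab : ¬ IsMulCommutative T
  cent : Subgroup.centralizer (T : Set G) = ⊥
  faith : FaithfulSMul G Ω
  trans : IsPretransitive G Ω
  two : 2 ≤ Nat.card Ω
  imp : ∀ a : Ω, ¬ IsCoatom (stabilizer G a)

namespace Sit3

variable (h : Sit3 G Ω T)

include h

/-- elements of `T` without automorphic images in `T ∩ H` are derangements -/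
theorem der_of_aut {a : Ω} {x : T} (hx : ∀ φ : T ≃* T, φ x ∉ stabT T a) (b : Ω) : (x : G) • b ≠ b := by
  intro hb
  have hT := h.normal
  have htr := h.trans
  obtain ⟨g, rfl⟩ := MulAction.exists_smul_eq G a b
  apply hx (MulAut.conjNormal g⁻¹)
  rw [mem_stabT, MulAut.conjNormal_apply, mul_smul, mul_smul, inv_inv, hb, inv_smul_smul]

theorem ne_of_aut {x y : T} (hxy : ∀ φ : T ≃* T, φ x ≠ y) (g : G) : g * (x : G) * g⁻¹ ≠ y := by
  intro hg
  have hT := h.normal
  apply hxy (MulAut.conjNormal g)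
  apply Subtype.ext
  rw [MulAut.conjNormal_apply, hg]

theorem ne_of_not_mem {x : T} {z : G} (hz : z ∉ T) (g : G) : g * (x : G) * g⁻¹ ≠ z := fun hg =>
  hz (hg ▸ h.normal.conj_mem x x.2 g)

theorem stabT_ne_top (a : Ω) : stabT T a ≠ ⊤ := by
  intro h1
  have hT := h.normal
  have hs := h.simple
  have htr := h.trans
  have h2 : T ≤ stabilizer G a := by rwa [subgroupOf_eq_top] at h1
  have h3 : T = ⊥ := by
    rw [eq_bot_iff]
    intro t ht
    rw [mem_bot]
    have := h.faith
    apply FaithfulSMul.eq_of_smul_eq_smul (α := Ω)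
    intro b
    obtain ⟨g, rfl⟩ := MulAction.exists_smul_eq G a b
    have h4 : g⁻¹ * t * g ∈ T := by simpa using hT.conj_mem t ht g⁻¹
    have h5 : (g⁻¹ * t * g) • a = a := h2 h4
    rw [mul_smul, mul_smul, inv_smul_eq_iff] at h5
    rw [one_smul, h5]
  rw [h3] at hs
  exact not_subsingleton (⊥ : Subgroup G) inferInstance

omit h in
/-- Jordan -/
theorem exists_not_conj {K : Subgroup G} (hK : K ≠ ⊤) : ∃ z : G, ∀ g : G, g * z * g⁻¹ ∉ K := by
  obtain ⟨z, hz⟩ := Cfsg.Agent.H395.Jordan.exists_derangement (G := G) (X := G ⧸ K) inferInstance (by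
    have h1 : K.index ≠ 0 := Subgroup.index_ne_zero_of_finite
    have h2 : K.index ≠ 1 := fun h3 => hK (Subgroup.index_eq_one.1 h3)
    have h3 : Nat.card (G ⧸ K) = K.index := rfl
    omega)
  refine ⟨z, fun g hg => hz ((g⁻¹ : G) : G ⧸ K) ?_⟩
  rw [MulAction.Quotient.smul_mk, smul_eq_mul, eq_comm, QuotientGroup.eq, inv_inv, ← mul_assoc]
  exact hg

/-- `T` intransitive -/
theorem case_int {a : Ω} (hK : T ⊔ stabilizer G a ≠ ⊤)
    (hr : (∀ M : Subgroup T, IsCoatom M → Two T M) ∨ (Cos T ∧ ∀ M : Subgroup T, IsCoatom M → Miss T M)) :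
    3 ≤ Nat.card {c : ConjClasses G // ∃ g : G, ConjClasses.mk g = c ∧ ∀ ω : Ω, g • ω ≠ ω} := by
  have hT := h.normal
  have hs := h.simple
  have htr := h.trans
  obtain ⟨z, hz⟩ := exists_not_conj hK
  have hzT : z ∉ T := fun h1 => hz 1 (by simpa only [_root_.one_mul, _root_.inv_one, _root_.mul_one] using (mem_sup_left h1 : z ∈ T ⊔ stabilizer G a))
  have hder : ∀ z : G, (∀ g : G, g * z * g⁻¹ ∉ T ⊔ stabilizer G a) → ∀ b : Ω, z • b ≠ b := by
    intro z hz b hb
    obtain ⟨g, rfl⟩ := MulAction.exists_smul_eq G a b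
    apply hz g⁻¹
    apply mem_sup_right
    rw [mem_stabilizer_iff, mul_smul, mul_smul, inv_inv, hb, inv_smul_smul]
  rcases eq_top_or_exists_le_coatom (stabT T a) with h1 | ⟨M, hM, h1⟩
  · exact absurd h1 (h.stabT_ne_top a)
  rcases hr with hr | ⟨hr, hm⟩
  · obtain ⟨x, y, hx, hy, hxy⟩ := (hr M hM).mono h1
    exact three_le (x := (x : G)) (y := (y : G)) (z := z) (h.der_of_aut hx) (h.der_of_aut hy) (hder z hz)
      (h.ne_of_aut hxy) (h.ne_of_not_mem hzT) (h.ne_of_not_mem hzT)
  · obtain ⟨x, hx⟩ := (hm M hM).mono h1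
    -- the coset of `z`
    have hinj : Function.Injective (MulAut.conjNormal : G →* MulAut T) := by
      rw [injective_iff_map_eq_one]
      intro g hg
      have h1 : g ∈ centralizer (T : Set G) := by
        rw [Subgroup.mem_centralizer_iff]
        intro x hx
        have h2 : (MulAut.conjNormal g : MulAut T) ⟨x, hx⟩ = ⟨x, hx⟩ := by rw [hg]; rfl
        have h3 : g * x * g⁻¹ = x := by
          have := congrArg Subtype.val h2
          rwa [MulAut.conjNormal_apply] at this
        exact (mul_inv_eq_iff_eq_mul.1 h3).symm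
      rwa [h.cent, Subgroup.mem_bot] at h1
    have hconj : ∀ t : T, (MulAut.conjNormal (t : G) : MulAut T) = MulAut.conj t := by
      intro t
      ext s
      simp only [_root_.MulAut.conjNormal_apply, _root_.MulAut.conj_apply, _root_.Subgroup.coe_mul, _root_.InvMemClass.coe_inv]
    obtain ⟨t, ht⟩ := hr (MulAut.conjNormal z) (fun t h2 => hzT (by
      rw [← hconj] at h2
      rw [hinj h2]
      exact t.2))
    rw [← hconj, ← map_mul, orderOf_injective _ hinj, orderOf_injective _ hinj] at ht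
    have htz : ∀ g : G, g * ((t : G) * z) * g⁻¹ ∉ T ⊔ stabilizer G a := by
      intro g hg
      apply hz g
      have h2 : g * z * g⁻¹ = (g * t * g⁻¹)⁻¹ * (g * (t * z) * g⁻¹) := by group
      rw [h2]
      exact mul_mem (inv_mem (mem_sup_left (hT.conj_mem t t.2 g))) hg
    have htzT : (t : G) * z ∉ T := fun h2 => hzT (by simpa using T.mul_mem (T.inv_mem t.2) h2)
    refine three_le (x := (x : G)) (y := z) (z := (t : G) * z) (h.der_of_aut hx) (hder z hz) (hder _ htz)
      (h.ne_of_not_mem hzT) (h.ne_of_not_mem htzT) fun g hg => ht ?_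
    rw [← hg]
    exact (MulAut.conj g).orderOf_eq z

theorem der_of (htr : ∀ a b : Ω, ∃ t ∈ T, t • a = b) {a : Ω} {x : T} (hx : ∀ g : T, g * x * g⁻¹ ∉ stabT T a) (b : Ω) :
    (x : G) • b ≠ b := by
  intro hb
  obtain ⟨t, ht, rfl⟩ := htr a b
  apply hx ⟨t, ht⟩⁻¹
  rw [mem_stabT]
  show (t⁻¹ * (x : G) * t⁻¹⁻¹) • a = a
  rw [inv_inv, mul_smul, mul_smul, hb, inv_smul_smul]

omit h in
theorem trans_T {a : Ω} (htr : IsPretransitive G Ω) (hT : T.Normal) (hK : T ⊔ stabilizer G a = ⊤) :
    ∀ b c : Ω, ∃ t ∈ T, t • b = c := by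
  have h1 : ∀ b : Ω, ∃ t ∈ T, t • a = b := by
    intro b
    obtain ⟨g, rfl⟩ := MulAction.exists_smul_eq G a b
    have hg : g ∈ T ⊔ stabilizer G a := by rw [hK]; trivial
    rw [Subgroup.mem_sup_of_normal_left] at hg
    obtain ⟨t, ht, k, hk, rfl⟩ := hg
    refine ⟨t, ht, ?_⟩
    rw [mul_smul, mem_stabilizer_iff.1 hk]
  intro b c
  obtain ⟨t, ht, rfl⟩ := h1 b
  obtain ⟨u, hu, rfl⟩ := h1 c
  exact ⟨u * t⁻¹, mul_mem hu (inv_mem ht), by rw [mul_smul, inv_smul_smul]⟩

/-- `T = G` -/
theorem case_top {a : Ω} (hG : T = ⊤) (h3 : ThreeT T (stabT T a)) :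
    3 ≤ Nat.card {c : ConjClasses G // ∃ g : G, ConjClasses.mk g = c ∧ ∀ ω : Ω, g • ω ≠ ω} := by
  have htr := h.trans
  have h1 : ∀ b c : Ω, ∃ t ∈ T, t • b = c := by
    intro b c
    obtain ⟨g, hg⟩ := MulAction.exists_smul_eq G b c
    exact ⟨g, by rw [hG]; exact mem_top g, hg⟩
  obtain ⟨x, y, z, hx, hy, hz, hxy, hxz, hyz⟩ := h3
  have key : ∀ u v : T, (∀ g : T, g * u * g⁻¹ ≠ v) → ∀ g : G, g * (u : G) * g⁻¹ ≠ v := fun u v huv g hg =>
    huv ⟨g, by rw [hG]; exact mem_top g⟩ (Subtype.ext hg)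
  exact three_le (h.der_of h1 hx) (h.der_of h1 hy) (h.der_of h1 hz) (key _ _ hxy) (key _ _ hxz) (key _ _ hyz)

theorem not_isCoatom_stabT {a : Ω} (hG : T = ⊤) : ¬ IsCoatom (stabT T a) := by
  subst hG
  intro h1
  apply h.imp a
  have h2 := Cfsg.Agent.H278.El.isCoatom_comap (Subgroup.topEquiv (G := G)).symm h1
  have h3 : (stabT (⊤ : Subgroup G) a).comap (Subgroup.topEquiv (G := G)).symm.toMonoidHom = stabilizer G a := by
    ext x
    rfl
  rwa [h3] at h2

/-- the group `N` between the stabiliser and `T` -/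
theorem exists_N {a : Ω} (hK : T ⊔ stabilizer G a = ⊤) : ∃ M : Subgroup G, stabilizer G a < M ∧
    stabT T a < M.subgroupOf T ∧ M.subgroupOf T < ⊤ := by
  have hT := h.normal
  have hne : stabilizer G a ≠ ⊤ := by
    intro h1
    apply h.stabT_ne_top a
    rw [stabT, h1, top_subgroupOf]
  obtain ⟨M, hM1, hM2⟩ : ∃ M : Subgroup G, stabilizer G a < M ∧ M ≠ ⊤ := by
    by_contra hcon
    push Not at hcon
    exact h.imp a ⟨hne, fun M hM => hcon M hM⟩
  refine ⟨M, hM1, ?_, ?_⟩
  · refine lt_of_le_of_ne (fun x hx => hM1.le hx) fun h1 => hM1.not_ge fun m hm => ?_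
    have hm' : m ∈ T ⊔ stabilizer G a := by rw [hK]; trivial
    rw [Subgroup.mem_sup_of_normal_left] at hm'
    obtain ⟨t, ht, k, hk, rfl⟩ := hm'
    have h2 : t ∈ M := by simpa using mul_mem hm (inv_mem (hM1.le hk))
    have h3 : (⟨t, ht⟩ : T) ∈ stabT T a := by
      rw [h1]
      exact h2
    exact mul_mem h3 hk
  · rw [lt_top_iff_ne_top]
    intro h1
    rw [subgroupOf_eq_top] at h1
    apply hM2
    rw [eq_top_iff, ← hK]
    exact sup_le h1 hM1.le

theorem index_stabT (htr' : ∀ a b : Ω, ∃ t ∈ T, t • a = b) (a : Ω) : (stabT T a).index = Nat.card Ω := by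
  have htr'' : IsPretransitive T Ω := ⟨fun a b => by
    obtain ⟨n, hn, h1⟩ := htr' a b
    exact ⟨⟨n, hn⟩, h1⟩⟩
  rw [← MulAction.index_stabilizer_of_transitive T a]
  rfl

/-- `|Ω| ≡ 1 (mod s)` for all primes `s ∣ |G : T|` -/
theorem mod (hout : ∀ g : G, g ∉ T → ∃! a : Ω, g • a = a) (s : ℕ) (hs : s.Prime) (hd : s ∣ T.index) :
    Nat.card Ω ≡ 1 [MOD s] := by
  have hT := h.normal
  have := Fact.mk hs
  -- an element of `s`-power order outside `T`
  have h1 : s ∣ Nat.card (G ⧸ T) := hd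
  obtain ⟨q, hq⟩ := exists_prime_orderOf_dvd_card' s h1
  obtain ⟨g, rfl⟩ := QuotientGroup.mk_surjective q
  obtain ⟨k, m, hm, hkm⟩ := Nat.exists_eq_pow_mul_and_not_dvd (orderOf_pos g).ne' s hs.ne_one
  have h2 : g ^ m ∉ T := by
    intro h3
    rw [← QuotientGroup.eq_one_iff, QuotientGroup.mk_pow] at h3
    have h4 := orderOf_dvd_of_pow_eq_one h3
    rw [hq] at h4
    exact hm h4
  obtain ⟨a, ha, ha'⟩ := hout _ h2
  have hp : IsPGroup s (zpowers (g ^ m)) := by
    rintro ⟨x, j, rfl⟩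
    refine ⟨k, Subtype.ext ?_⟩
    show ((g ^ m) ^ j) ^ s ^ k = 1
    rw [← zpow_natCast, ← zpow_mul, mul_comm, zpow_mul, zpow_natCast, ← pow_mul, mul_comm m, ← hkm, pow_orderOf_eq_one,
      one_zpow]
  have h3 := hp.card_modEq_card_fixedPoints Ω
  have h4 : Nat.card (fixedPoints (zpowers (g ^ m)) Ω) = 1 := by
    rw [Nat.card_eq_one_iff_unique]
    have h5 : ∀ b : Ω, b ∈ fixedPoints (zpowers (g ^ m)) Ω → b = a := fun b hb =>
      ha' b (hb ⟨g ^ m, mem_zpowers _⟩)
    refine ⟨⟨fun b c => Subtype.ext ((h5 _ b.2).trans (h5 _ c.2).symm)⟩, ⟨⟨a, ?_⟩⟩⟩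
    rintro ⟨x, j, rfl⟩
    exact zpow_mem (K := stabilizer G a) (show g ^ m ∈ stabilizer G a from ha) j
  rwa [h4] at h3

theorem index_dvd_out : T.index ∣ Nat.card (Cfsg.Out T) := by
  have hT := h.normal
  have hS := h.simple
  have hinj : Function.Injective (MulAut.conjNormal : G →* MulAut T) := by
    rw [injective_iff_map_eq_one]
    intro g hg
    have h1 : g ∈ centralizer (T : Set G) := by
      rw [Subgroup.mem_centralizer_iff]
      intro x hx
      have h2 : (MulAut.conjNormal g : MulAut T) ⟨x, hx⟩ = ⟨x, hx⟩ := by rw [hg]; rfl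
      have h3 : g * x * g⁻¹ = x := by
        have := congrArg Subtype.val h2
        rwa [MulAut.conjNormal_apply] at this
      exact (mul_inv_eq_iff_eq_mul.1 h3).symm
    rwa [h.cent, Subgroup.mem_bot] at h1
  have h1 := Cfsg.Agent.H934.OutB.card_out_mul T h.nab
  have : Finite (MulAut T) := Finite.of_injective (fun f : MulAut T => (f : T → T)) DFunLike.coe_injective
  have h2 : Nat.card G ∣ Nat.card (MulAut T) := by
    rw [Nat.card_congr (MonoidHom.ofInjective hinj).toEquiv]
    exact Subgroup.card_subgroup_dvd_card _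
  rw [← h1, ← Subgroup.card_mul_index T, mul_comm] at h2
  exact Nat.dvd_of_mul_dvd_mul_right Nat.card_pos h2

omit h in
theorem map_conj_eq [T.Normal] {K : Subgroup G} {g : G} (hg : g ∈ K) :
    (K.subgroupOf T).map (MulAut.conjNormal (H := T) g).toMonoidHom = K.subgroupOf T := by
  have h3 : ∀ k : G, k ∈ K → (K.subgroupOf T).map (MulAut.conjNormal (H := T) k).toMonoidHom ≤ K.subgroupOf T := by
    rintro k hk _ ⟨x, hx, rfl⟩
    have hx' : (x : G) ∈ K := hx
    rw [mem_subgroupOf]
    show ((MulAut.conjNormal k x : T) : G) ∈ K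
    rw [MulAut.conjNormal_apply]
    exact mul_mem (mul_mem hk hx') (inv_mem hk)
  refine le_antisymm (h3 _ hg) fun x hx => ?_
  refine ⟨MulAut.conjNormal (H := T) g⁻¹ x, h3 g⁻¹ (inv_mem hg) ⟨x, hx, rfl⟩, ?_⟩
  show MulAut.conjNormal (H := T) g (MulAut.conjNormal (H := T) g⁻¹ x) = x
  rw [← MulAut.mul_apply, ← map_mul, mul_inv_cancel, map_one]
  rfl

theorem not_inner {g : G} (hg : g ∉ T) (t : T) : (haveI := h.normal; MulAut.conjNormal (H := T) g) ≠ MulAut.conj t := by
  intro h5
  have hT := h.normal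
  apply hg
  have h6 : (t : G)⁻¹ * g ∈ centralizer (T : Set G) := by
    rw [mem_centralizer_iff]
    intro m hm
    have h7 := congrArg (fun f : MulAut T => ((f ⟨m, hm⟩ : T) : G)) h5
    simp only [MulAut.conj_apply, MulAut.conjNormal_apply, coe_mul, coe_inv] at h7
    rw [mul_inv_eq_iff_eq_mul] at h7
    calc m * ((t : G)⁻¹ * g) = (t : G)⁻¹ * ((t : G) * m * (t : G)⁻¹ * g) := by group
      _ = (t : G)⁻¹ * g * m := by rw [← h7]; group
  rw [h.cent, mem_bot, inv_mul_eq_one] at h6
  rw [← h6]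
  exact t.2

/-- `T` transitive, `T ≠ G` -/
theorem case_trans {a : Ω} (hK : T ⊔ stabilizer G a = ⊤) (hG : T ≠ ⊤)
    (hr : Three T (stabT T a) ∨ (Two T (stabT T a) ∧ (NoOne T (stabT T a) ∨ OutBadN T (stabT T a)))) :
    3 ≤ Nat.card {c : ConjClasses G // ∃ g : G, ConjClasses.mk g = c ∧ ∀ ω : Ω, g • ω ≠ ω} := by
  have hT := h.normal
  have htr' := trans_T h.trans hT hK
  rcases hr with hr | ⟨h2, hr⟩
  · obtain ⟨x, y, z, hx, hy, hz, hxy, hxz, hyz⟩ := hr
    exact three_le (h.der_of_aut hx) (h.der_of_aut hy) (h.der_of_aut hz) (h.ne_of_aut hxy) (h.ne_of_aut hxz)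
      (h.ne_of_aut hyz)
  · -- an outer derangement
    by_cases hout : ∀ g : G, g ∉ T → ∃ b : Ω, g • b = b
    · exfalso
      have h1 := out_one T htr' hout
      rcases hr with hr | hr
      · have h4 : T.index ≠ 1 := fun h5 => hG (Subgroup.index_eq_one.1 h5)
        have h5 := Nat.minFac_prime h4
        exact hr _ h5 ((Nat.minFac_dvd _).trans h.index_dvd_out) (by
          rw [h.index_stabT htr' a]
          exact h.mod h1 _ h5 (Nat.minFac_dvd _))
      · -- an element of the stabiliser outside `T`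
        obtain ⟨g, hg, hga⟩ : ∃ g : G, g ∉ T ∧ g • a = a := by
          obtain ⟨g, hg⟩ : ∃ g : G, g ∉ T := by
            by_contra hcon
            push Not at hcon
            exact hG (eq_top_iff.2 fun g _ => hcon g)
          obtain ⟨t, ht, h1⟩ := htr' (g • a) a
          exact ⟨t * g, fun h2 => hg (by simpa using T.mul_mem (T.inv_mem ht) h2), by rw [mul_smul, h1]⟩
        obtain ⟨M, hM1, hM2, hM3⟩ := h.exists_N hK
        obtain ⟨r, hr', t, ht, h4⟩ := hr (MulAut.conjNormal (H := T) g) (h.not_inner hg)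
          (map_conj_eq (K := stabilizer G a) (mem_stabilizer_iff.2 hga))
          ⟨M.subgroupOf T, hM2, hM3, map_conj_eq (hM1.le (mem_stabilizer_iff.2 hga))⟩
        have hra : (r : G) • a = a := mem_stabT.1 hr'
        obtain ⟨b, hb, hb'⟩ := h1 ((r : G) * g) fun h5 => hg (by simpa using T.mul_mem (T.inv_mem r.2) h5)
        have h5 : a = b := hb' a (show ((r : G) * g) • a = a by rw [mul_smul, hga, hra])
        have h6 : (t : G) • a = b := by
          apply hb'
          show ((r : G) * g) • (t : G) • a = (t : G) • a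
          have h7 := mem_stabT.1 h4
          have h8 : (((t⁻¹ * (r * (MulAut.conjNormal (H := T) g) t * r⁻¹) : T)) : G) =
              (t : G)⁻¹ * ((r : G) * g * (t : G)) * ((r : G) * g)⁻¹ := by
            simp only [coe_mul, coe_inv, MulAut.conjNormal_apply]
            group
          rw [h8, mul_smul, mul_smul, inv_smul_eq_iff, inv_smul_eq_iff.2 (show a = ((r : G) * g) • a by
            rw [mul_smul, hga, hra])] at h7
          rw [← mul_smul]
          exact h7
        exact ht (mem_stabT.2 (h6.trans h5.symm))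
    · push Not at hout
      obtain ⟨z, hzT, hz⟩ := hout
      obtain ⟨x, y, hx, hy, hxy⟩ := h2
      exact three_le (x := (x : G)) (y := (y : G)) (z := z) (h.der_of_aut hx) (h.der_of_aut hy) hz
        (h.ne_of_aut hxy) (h.ne_of_not_mem hzT) (h.ne_of_not_mem hzT)

/-- **Reduction.** -/
theorem final (hr : RowW T ∨ RowA T) :
    3 ≤ Nat.card {c : ConjClasses G // ∃ g : G, ConjClasses.mk g = c ∧ ∀ ω : Ω, g • ω ≠ ω} ∨
      (Nat.card {c : ConjClasses G // ∃ g : G, ConjClasses.mk g = c ∧ ∀ ω : Ω, g • ω ≠ ω} = 2 ∧ Nat.card G = 60 ∧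
        Nat.card Ω = 12) := by
  have hT := h.normal
  have hne : Nonempty Ω := by
    by_contra hn
    rw [not_nonempty_iff] at hn
    have := h.two
    rw [Nat.card_of_isEmpty] at this
    omega
  obtain ⟨a⟩ := hne
  by_cases hK : T ⊔ stabilizer G a = ⊤
  · by_cases hG : T = ⊤
    · have hc := h.not_isCoatom_stabT (a := a) hG
      rcases hr with hr | hr
      · rcases hr.2 _ (h.stabT_ne_top a) hc with h1 | ⟨h1, -, -⟩
        · exact Or.inl (h.case_top hG h1.threeT)
        · exact Or.inl (h.case_top hG h1)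
      · rcases hr.2.2.2 _ (h.stabT_ne_top a) hc with (h1 | ⟨h1, -, -⟩) | ⟨h1, h2, -⟩
        · exact Or.inl (h.case_top hG h1.threeT)
        · exact Or.inl (h.case_top hG h1)
        · rw [h.index_stabT (trans_T h.trans hT hK) a] at h1
          obtain ⟨x, y, hx, hy, hxy⟩ := h2
          have h3 := two_le (P := fun g : G => ∀ ω : Ω, g • ω ≠ ω) (x := (x : G)) (y := (y : G))
            (h.der_of_aut hx) (h.der_of_aut hy) (h.ne_of_aut hxy)
          have h4 : Nat.card G = 60 := by
            rw [← hr.1, hG]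
            exact (Nat.card_congr (Subgroup.topEquiv (G := G)).toEquiv).symm
          rcases Nat.lt_or_ge 2 (Nat.card {c : ConjClasses G // ∃ g : G, ConjClasses.mk g = c ∧ ∀ ω : Ω, g • ω ≠ ω}) with h5 | h5
          · exact Or.inl h5
          · exact Or.inr ⟨le_antisymm h5 h3, h4, h1⟩
    · left
      obtain ⟨M, hM1, hM2, hM3⟩ := h.exists_N hK
      have hc : ¬ IsCoatom (stabT T a) := fun hc => hM3.ne (hc.2 _ hM2)
      apply h.case_trans hK hG
      rcases hr with hr | hr
      · rcases hr.2 _ (h.stabT_ne_top a) hc with h1 | ⟨-, h1⟩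
        · exact Or.inl h1
        · exact Or.inr h1
      · rcases hr.2.2.2 _ (h.stabT_ne_top a) hc with (h1 | ⟨-, h1⟩) | ⟨-, h1, h2⟩
        · exact Or.inl h1
        · exact Or.inr h1
        · exact Or.inr ⟨h1, Or.inl h2⟩
  · left
    apply h.case_int hK
    rcases hr with hr | hr
    · exact hr.1
    · exact Or.inr ⟨hr.2.1, hr.2.2.1⟩

end Sit3

end

end Cfsg.Agent.H439.Der

private theorem dce_867e7758500d : _root_.True := by
  try have : _root_.True := by simp only [_root_.Cfsg.Agent.H439.Der.stabT.eq_1]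
  exact _root_.True.intro
end

-- part: H439/Der/Final
section
set_option linter.all false
open scoped Cfsg.Agent.FastGrp

-- part: H439/Der/Asm
section
/-!
# Assembly of rows over the list of the known simple groups
-/

set_option autoImplicit false

namespace Cfsg.Agent.H439.Der.Asm

open Cfsg

universe u

/-- a predicate (in two universes) from its rows -/
theorem all_of (Pu : ∀ (T : Type u) [Group T], Prop) (P0 : ∀ (T : Type) [Group T], Prop)
    (congr : ∀ (T : Type) (S : Type u) [Group T] [Group S], (T ≃* S) → P0 T → Pu S)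
    (congr0 : ∀ (T S : Type) [Group T] [Group S], (T ≃* S) → P0 T → P0 S)
    (alt : ∀ n : ℕ, 5 ≤ n → P0 (alternatingGroup (Fin n)))
    (psl2 : ∀ (F : Type) [Field F] [Fintype F], 4 ≤ Fintype.card F → Fintype.card F ∉ ({4, 5, 9} : Finset ℕ) →
      P0 (Matrix.ProjectiveSpecialLinearGroup (Fin 2) F))
    (psl : ∀ (F : Type) [Field F] [Fintype F] (n : ℕ), 3 ≤ n →
      (n, Fintype.card F) ∉ ({(3, 2), (4, 2)} : Finset (ℕ × ℕ)) → P0 (Matrix.ProjectiveSpecialLinearGroup (Fin n) F))
    (psu3 : ∀ (F : Type) [Field F] [Fintype F] (q : ℕ), Fintype.card F = q ^ 2 → 3 ≤ q → P0 (PSU 3 F q))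
    (psu : ∀ (F : Type) [Field F] [Fintype F] (n q : ℕ), Fintype.card F = q ^ 2 → 4 ≤ n → 2 ≤ q → P0 (PSU n F q))
    (psp4 : ∀ (F : Type) [Field F] [Fintype F], 4 ≤ Fintype.card F → P0 (PSp 2 F))
    (psp : ∀ (F : Type) [Field F] [Fintype F] (m : ℕ), 3 ≤ m → P0 (PSp m F))
    (oodd : ∀ (F : Type) [Field F] [Fintype F] (m : ℕ), 3 ≤ m → Odd (Fintype.card F) → P0 (POmega F (quadFormOdd m F)))
    (oplus : ∀ (F : Type) [Field F] [Fintype F] (m : ℕ), 4 ≤ m → P0 (POmega F (quadFormPlus m F)))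
    (ominus : ∀ (F : Type) [Field F] [Fintype F] (m : ℕ) (a b : F), 4 ≤ m →
      (∀ z₁ z₂ : F, z₁ ^ 2 + a * z₁ * z₂ + b * z₂ ^ 2 = 0 → z₁ = 0 ∧ z₂ = 0) →
      P0 (POmega F (quadFormMinus (m - 1) F a b)))
    (exc : ∀ (T : Type u) [Group T] [Finite T], IsExceptionalLieType T → Pu T)
    (spor : ∀ (T : Type u) [Group T] [Finite T], IsSporadicGroup T → Pu T)
    (T : Type u) [Group T] [Finite T] (hna : ¬ IsMulCommutative T) (hk : IsKnownSimple' T) : Pu T := by
  rcases hk with h | ⟨n, hn, ⟨e⟩⟩ | ⟨F, iF, iT, n, hn, h4, ⟨e⟩⟩ | ⟨F, iF, iT, m, hm, h3, ⟨e⟩⟩ |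
    ⟨F, iF, iT, n, q, hF, hn, h2, ⟨e⟩⟩ | ⟨F, iF, iT, m, hm, ho, ⟨e⟩⟩ | ⟨F, iF, iT, m, hm, ⟨e⟩⟩ |
    ⟨F, iF, iT, m, a, b, hm, hab, ⟨e⟩⟩ | h | h
  · exfalso
    apply hna
    have := Fact.mk (show (Nat.card T).Prime from h)
    have hc := isCyclic_of_prime_card (α := T) rfl
    exact ⟨⟨fun a b => (IsCyclic.commGroup (α := T)).mul_comm a b⟩⟩
  · exact congr _ _ e.symm (alt n hn)
  · rcases Nat.lt_or_ge n 3 with hn3 | hn3
    · obtain rfl : n = 2 := by omega
      have h4' := h4 rfl
      by_cases h : Fintype.card F ∈ ({4, 5, 9} : Finset ℕ)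
      · simp only [Finset.mem_insert, Finset.mem_singleton] at h
        rcases h with h | h | h
        · obtain ⟨e1⟩ := S0252.result (F := F) h
          exact congr _ _ (e.trans e1).symm (alt 5 le_rfl)
        · obtain ⟨e1⟩ := S0253.result (F := F) h
          exact congr _ _ (e.trans e1).symm (alt 5 le_rfl)
        · obtain ⟨e1⟩ := S0254.result (F := F) h
          exact congr _ _ (e.trans e1).symm (alt 6 (by norm_num))
      · exact congr _ _ e.symm (psl2 F h4' h)
    · by_cases h : (n, Fintype.card F) ∈ ({(3, 2), (4, 2)} : Finset (ℕ × ℕ))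
      · simp only [Finset.mem_insert, Finset.mem_singleton, Prod.mk.injEq] at h
        rcases h with ⟨rfl, h⟩ | ⟨rfl, h⟩
        · have := Fact.mk (show Nat.Prime 7 by norm_num)
          obtain ⟨e1⟩ := S0255.result (F := ZMod 7) (K := F) (ZMod.card 7) h
          exact congr _ _ (e.trans e1.symm).symm (psl2 (ZMod 7) (by rw [ZMod.card]; norm_num) (by
            rw [ZMod.card]; decide))
        · obtain ⟨e1⟩ := S0256.result (F := F) h
          exact congr _ _ (e.trans e1).symm (alt 8 (by norm_num))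
      · exact congr _ _ e.symm (psl F n hn3 h)
  · rcases Nat.lt_or_ge m 3 with hm3 | hm3
    · obtain rfl : m = 2 := by omega
      rcases Nat.lt_or_ge (Fintype.card F) 4 with h | h
      · have h' : Fintype.card F = 3 := by have := h3 rfl; omega
        have := Fact.mk (show Nat.Prime 2 by norm_num)
        let K := GaloisField 2 2
        have : Fintype K := Fintype.ofFinite K
        have hK : Fintype.card K = 4 := by
          rw [← Nat.card_eq_fintype_card, GaloisField.card 2 2 (by norm_num)]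
          norm_num
        obtain ⟨e1⟩ := S0822.result (F := K) (K := F) hK h'
        exact congr _ _ (e.trans e1.symm).symm (psu K 4 2 (by rw [hK]; norm_num) le_rfl le_rfl)
      · exact congr _ _ e.symm (psp4 F h)
    · exact congr _ _ e.symm (psp F m hm3)
  · have hq : 2 ≤ q := by
      have h5 := Fintype.one_lt_card (α := F)
      rw [hF] at h5
      by_contra h6
      have h7 : q ≤ 1 := by omega
      have h8 : q ^ 2 ≤ 1 := by
        calc q ^ 2 ≤ 1 ^ 2 := Nat.pow_le_pow_left h7 2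
          _ = 1 := by norm_num
      omega
    rcases Nat.lt_or_ge n 4 with hn4 | hn4
    · obtain rfl : n = 3 := by omega
      exact congr _ _ e.symm (psu3 F q hF (by
        have : q ≠ 2 := fun h => h2 ⟨rfl, h⟩
        omega))
    · exact congr _ _ e.symm (psu F n q hF hn4 hq)
  · exact congr _ _ e.symm (oodd F m hm ho)
  · exact congr _ _ e.symm (oplus F m hm)
  · exact congr _ _ e.symm (ominus F m a b hm hab)
  · exact exc T h
  · exact spor T h

end Cfsg.Agent.H439.Der.Asm
end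

-- part: H439/Der/Final
section
/-!
# S3500 and S3502 from the rows
-/

set_option autoImplicit false

namespace Cfsg.Agent.H439.Der

open Subgroup MulAction Cfsg

universe u v

theorem Good.congr {T S : Type*} [Group T] [Group S] (e : T ≃* S) (h : Good T) : Good S := by
  rcases h with h | h | h | h | h
  · exact Or.inl (h.congr e)
  · exact Or.inr (Or.inl (h.congr e))
  · exact Or.inr (Or.inr (Or.inl (h.congr e)))
  · exact Or.inr (Or.inr (Or.inr (Or.inl (h.congr e))))
  · exact Or.inr (Or.inr (Or.inr (Or.inr (h.congr e))))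

/-- one of the rows of S3502 -/
def Good3 (T : Type*) [Group T] : Prop := RowW T ∨ RowA T

theorem Good3.congr {T S : Type*} [Group T] [Group S] (e : T ≃* S) (h : Good3 T) : Good3 S := by
  rcases h with h | h
  · exact Or.inl (h.congr e)
  · exact Or.inr (h.congr e)

/-- every finite group has a copy in `Type` -/
theorem exists_copy (T : Type u) [Group T] [Finite T] : ∃ (S : Type) (_ : Group S) (_ : Finite S), Nonempty (T ≃* S) := by
  obtain ⟨n, ⟨e⟩⟩ := Finite.exists_equiv_fin T
  let e' : {x : Fin n // True} ≃ T := (Equiv.subtypeUnivEquiv fun _ => trivial).trans e.symm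
  let iG : Group {x : Fin n // True} := e'.group
  exact ⟨{x : Fin n // True}, iG, inferInstance, ⟨(Equiv.mulEquiv e').symm⟩⟩

theorem all_of_zero (P0 : ∀ (T : Type) [Group T], Prop) (Pu : ∀ (T : Type u) [Group T], Prop)
    (congr : ∀ (T : Type) (S : Type u) [Group T] [Group S], (T ≃* S) → P0 T → Pu S)
    (h : ∀ (T : Type) [Group T] [Finite T] [IsSimpleGroup T], ¬ IsMulCommutative T → P0 T)
    (T : Type u) [Group T] [Finite T] [IsSimpleGroup T] (hna : ¬ IsMulCommutative T) : Pu T := by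
  obtain ⟨S, iG, iF, ⟨e⟩⟩ := exists_copy T
  have hs : IsSimpleGroup S := (MulEquiv.isSimpleGroup_congr e).1 inferInstance
  refine congr S T e.symm (h S fun hc => hna ⟨⟨fun a b => e.injective ?_⟩⟩)
  rw [map_mul, map_mul]
  exact hc.is_comm.comm _ _

/-- **S3500** from the rows and the converse. -/
theorem s3500 (hgood : ∀ (T : Type) [Group T] [Finite T] [IsSimpleGroup T], ¬ IsMulCommutative T → Good T)
    {G : Type u} [Group G] [Finite G] {Ω : Type v} [Fintype Ω] [MulAction G Ω] [FaithfulSMul G Ω]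
    (conv : ((Fintype.card Ω = 6 ∧ Nat.card G = 60) ∨ (Fintype.card Ω = 28 ∧ Nat.card G = 1512)) →
      (∃ x : G, ∀ ω : Ω, x • ω ≠ ω) ∧ ∀ x y : G, (∀ ω : Ω, x • ω ≠ ω) → (∀ ω : Ω, y • ω ≠ ω) → ∃ g : G, g * x * g⁻¹ = y)
    (hΩ : 2 ≤ Fintype.card Ω) (hprim : MulAction.IsPreprimitive G Ω) :
    Nat.card {c : ConjClasses G // ∃ g : G, ConjClasses.mk g = c ∧ ∀ ω : Ω, g • ω ≠ ω} = 1 ↔
    ((MulAction.IsMultiplyPretransitive G Ω 2 ∧ ∀ g : G, g ≠ 1 → ∀ a b : Ω, a ≠ b → g • a = a → g • b ≠ b) ∨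
      (Fintype.card Ω = 6 ∧ Nat.card G = 60) ∨ (Fintype.card Ω = 28 ∧ Nat.card G = 1512)) := by
  have hnt : Nontrivial Ω := by
    rw [← Fintype.one_lt_card_iff_nontrivial]; omega
  constructor
  · intro h1
    by_cases hnas : ∃ T : Subgroup G, T.Normal ∧ IsSimpleGroup T ∧ ¬ IsMulCommutative T ∧ Subgroup.centralizer (T : Set G) = ⊥
    · right
      obtain ⟨T, hT, hs, hna, hc⟩ := hnas
      rw [S3501.card_classes_iff (fun g : G => ∀ ω : Ω, g • ω ≠ ω) (fun g x hx => S3501.der_conj g hx)] at h1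
      have h2 := sit_of (G := G) (Ω := Ω) (by rw [Nat.card_eq_fintype_card]; exact hΩ) hprim hT hs hna hc h1.2
      have h3 : Good T := all_of_zero (fun T _ => Good T) (fun T _ => Good T) (fun T S _ _ e h => h.congr e)
        (fun T _ _ _ h => hgood T h) T hna
      have h4 := h2.final h3
      rwa [Nat.card_eq_fintype_card] at h4
    · exact Or.inl ((S3501.result hΩ hprim hnas).1 h1)
  · intro h
    rw [S3501.card_classes_iff (fun g : G => ∀ ω : Ω, g • ω ≠ ω) (fun g x hx => S3501.der_conj g hx)]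
    rcases h with ⟨h1, h2⟩ | h
    · rw [MulAction.is_two_pretransitive_iff] at h1
      obtain ⟨N, hNn, hN, hcom, htr, hcard, hconj⟩ :=
        Cfsg.Agent.PermutationGroups.SharplyTwoTransitive.exists_regular_normal (G := G) (α := Ω)
          (fun a b c d hab hcd => h1 hab hcd)
          (fun g a b hab hga hgb => by
            by_contra hg
            exact h2 g hg a b hab hga hgb)
      constructor
      · obtain ⟨x, -, hx⟩ := S3501.exists_der_of_trans (G := G) (Ω := Ω) hΩ ⊤ (fun a b => by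
          obtain ⟨g, hg⟩ := hprim.exists_smul_eq a b
          exact ⟨g, Subgroup.mem_top g, hg⟩)
        exact ⟨x, hx⟩
      · intro x y hx hy
        have hne : ∀ z : G, (∀ a : Ω, z • a ≠ a) → z ≠ 1 := by
          rintro z hz rfl
          obtain ⟨a, -, -⟩ := exists_pair_ne Ω
          exact hz a (one_smul G a)
        exact hconj x ((hN x).2 (Or.inr hx)) y ((hN y).2 (Or.inr hy)) (hne x hx) (hne y hy)
    · exact conv h

/-- **S3502** from the rows. -/
theorem s3502 (hgood : ∀ (T : Type) [Group T] [Finite T] [IsSimpleGroup T], ¬ IsMulCommutative T → Good3 T)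
    {G : Type u} [Group G] [Finite G] {Ω : Type v} [Fintype Ω] [MulAction G Ω] [hf : FaithfulSMul G Ω]
    (hAS : ∃ T : Subgroup G, T.Normal ∧ IsSimpleGroup T ∧ ¬ IsMulCommutative T ∧ Subgroup.centralizer (T : Set G) = ⊥)
    (htr : MulAction.IsPretransitive G Ω) (hnp : ¬ MulAction.IsPreprimitive G Ω) :
    3 ≤ Nat.card {c : ConjClasses G // ∃ g : G, ConjClasses.mk g = c ∧ ∀ ω : Ω, g • ω ≠ ω} ∨
      (Nat.card {c : ConjClasses G // ∃ g : G, ConjClasses.mk g = c ∧ ∀ ω : Ω, g • ω ≠ ω} = 2 ∧ Nat.card G = 60 ∧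
        Fintype.card Ω = 12) := by
  obtain ⟨T, hT, hs, hna, hc⟩ := hAS
  have hnt : Nontrivial Ω := by
    by_contra hn
    rw [not_nontrivial_iff_subsingleton] at hn
    exact hnp ⟨fun {B} _ => Or.inl (Set.subsingleton_of_subsingleton)⟩
  have h1 : Sit3 G Ω T := ⟨hT, hs, hna, hc, hf, htr, by
    rw [Nat.card_eq_fintype_card]
    exact Fintype.one_lt_card, fun a h => hnp ((isCoatom_stabilizer_iff_preprimitive G a).1 h)⟩
  have h3 : Good3 T := all_of_zero (fun T _ => Good3 T) (fun T _ => Good3 T) (fun T S _ _ e h => h.congr e)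
    (fun T _ _ _ h => hgood T h) T hna
  have h4 := h1.final h3
  rwa [Nat.card_eq_fintype_card (α := Ω)] at h4

end Cfsg.Agent.H439.Der
end
end
end
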