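import Cfsg.Agent.H394.Der.Rows
import Cfsg.Agent.OrdDiv.Table
import Cfsg.Agent.S0000
import Cfsg.Agent.S4008
import Cfsg.Agent.H566.Main
import Cfsg.Agent.Prune
set_option linter.all false
prune_inst 0x7f00000000000000000000000000000000000000000000000000000000000000000000000000000000000000000000000000000000000000000000000000000000000000000000000000000000000000003fffffffffffffffffffffffffffbeffbdffffffff

/-!
# Classes of derangements: the rows `G₂(q)` and `³D₄(q)`, closed form (helper394, tasks 2396, 2983)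
-/

set_option autoImplicit false

namespace Cfsg.Agent.H394.Der

open Cfsg Cfsg.Lie Cfsg.Agent.H439.Der

universe u

theorem rowsG2 {T : Type u} [Group T] (h : IsoChevG2 T) : RowW T ∧ Row T :=
  rows_g2 OrdDiv.table (fun _ _ _ _ => S0000.result)
    (fun _ _ _ h1 h2 r h3 h4 h5 h6 R _ h7 h8 => S4008.result h1 h2 r h3 h4 h5 h6 R h7 h8)
    (fun _ _ _ _ _ h1 h2 h3 => (H566.rich_sub (fun _ _ _ _ => S0000.result) h1 h2 h3).1) h

theorem rows3D4 {T : Type u} [Group T] (h : Iso3D4 T) : RowW T ∧ Row T :=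
  rows_3d4 OrdDiv.table (fun _ _ _ _ => S0000.result)
    (fun _ _ _ h1 h2 r h3 h4 h5 h6 R _ h7 h8 => S4008.result h1 h2 r h3 h4 h5 h6 R h7 h8)
    (fun _ _ _ _ _ h1 h2 h3 => (H566.rich_sub (fun _ _ _ _ => S0000.result) h1 h2 h3).1) h

theorem row_g2 {T : Type u} [Group T] (h : IsoChevG2 T) : Row T := (rowsG2 h).2

theorem row_3d4 {T : Type u} [Group T] (h : Iso3D4 T) : Row T := (rows3D4 h).2

theorem rowW_g2 {T : Type u} [Group T] (h : IsoChevG2 T) : RowW T := (rowsG2 h).1

theorem rowW_3d4 {T : Type u} [Group T] (h : Iso3D4 T) : RowW T := (rows3D4 h).1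

end Cfsg.Agent.H394.Der
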