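import Cfsg.Agent.H396.ThreeOnTwo
import Cfsg.Agent.KFacts.RgdBorelTits
import Cfsg.Agent.KFacts.RgdFiltChev
import Cfsg.Agent.H35.ExcIdxTw_m3
import Cfsg.Agent.S1059
import Cfsg.Agent.S1035
import Cfsg.Agent.H394.Der.G24Tab_m3
import Cfsg.Agent.H396.ParG23
import Cfsg.Agent.H834.Sax.GTwo
import Cfsg.Agent.S2121
import Cfsg.Agent.H378.TwRows
import Cfsg.Agent.S2129
import Cfsg.Agent.FastGrp
import Cfsg.Agent.Prune
set_option linter.all false

section
prune_inst 0x7f00000000000000000000000000000000000000000000000000000000000000000000000000000000000000000000000000000000000000000000000000000000000000000000000000000000000000003fffffffffffffffffffffffffffbeffbdffffffff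

-- part: H394/Der/G23_mg
section
set_option linter.all false
open scoped Cfsg.Agent.FastGrp

-- part: H394/Der/Nine
section
/-!
# Elements of order nine in `{2, 3}`-groups (helper394)

`exists_W` : a group of order dividing `2 ^ 6 3 ^ 6` without normal `3`-subgroups, with an element of order `9`, has an
elementary abelian subgroup of order `64`.
-/

set_option autoImplicit false

namespace Cfsg.Agent.H394.Der.Nine

open Subgroup MulAction

universe u

variable {G : Type u} [Group G] [Finite G]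

theorem exists_mul_mod (i : ℕ) (hi : i % 9 ≠ 0) : ∃ j : ℕ, (i * j) % 9 = 3 := by
  have h1 : ∀ r : Fin 9, (r : ℕ) ≠ 0 → ∃ j : Fin 9, ((r : ℕ) * j) % 9 = 3 := by decide
  obtain ⟨j, hj⟩ := h1 ⟨i % 9, Nat.mod_lt _ (by norm_num)⟩ hi
  refine ⟨j, ?_⟩
  rw [Nat.mul_mod]
  simp only at hj
  rw [Nat.mul_mod, Nat.mod_mod] at hj
  exact hj

theorem nine_dvd {y : G} (hy : orderOf y = 9) {K : Subgroup G} (hK : y ∈ normalizer (K : Set G)) :
    9 ∣ Nat.card {k : K // y ^ 3 * (k : G) ≠ k * y ^ 3} := by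
  have hinv : ∀ x ∈ zpowers y, ∀ k ∈ K, x * k * x⁻¹ ∈ K := fun x hx k hk =>
    (mem_normalizer_iff.1 ((zpowers_le.2 hK) hx) k).1 hk
  have hcomm : ∀ x ∈ zpowers y, x * y ^ 3 = y ^ 3 * x := by
    intro x hx
    obtain ⟨i, rfl⟩ := mem_zpowers_iff.1 hx
    rw [← zpow_natCast, ← zpow_add, ← zpow_add, add_comm]
  let act : MulAction (zpowers y) {k : K // y ^ 3 * (k : G) ≠ k * y ^ 3} :=
    { smul := fun x k => ⟨⟨x * (k.1 : G) * (x : G)⁻¹, hinv x x.2 k.1 k.1.2⟩, fun h => k.2 (by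
        have h1 := hcomm x x.2
        have h2 : (x : G) * (y ^ 3 * (k.1 : G)) * (x : G)⁻¹ = x * ((k.1 : G) * y ^ 3) * (x : G)⁻¹ := by
          calc (x : G) * (y ^ 3 * (k.1 : G)) * (x : G)⁻¹ = (x * y ^ 3) * (k.1 : G) * (x : G)⁻¹ := by group
            _ = (y ^ 3 * x) * (k.1 : G) * (x : G)⁻¹ := by rw [h1]
            _ = y ^ 3 * (x * (k.1 : G) * (x : G)⁻¹) := by group
            _ = (x * (k.1 : G) * (x : G)⁻¹) * y ^ 3 := h
            _ = x * (k.1 : G) * ((x : G)⁻¹ * y ^ 3 * x) * (x : G)⁻¹ := by group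
            _ = x * (k.1 : G) * ((x : G)⁻¹ * (y ^ 3 * x)) * (x : G)⁻¹ := by group
            _ = x * (k.1 : G) * ((x : G)⁻¹ * (x * y ^ 3)) * (x : G)⁻¹ := by rw [h1]
            _ = _ := by group
        exact mul_left_cancel (mul_right_cancel h2))⟩
      one_smul := fun k => Subtype.ext (Subtype.ext (by
        change ((1 : zpowers y) : G) * (k.1 : G) * ((1 : zpowers y) : G)⁻¹ = k.1; simp only [_root_.OneMemClass.coe_one, _root_.ne_eq, _root_.one_mul, _root_.inv_one, _root_.mul_one]))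
      mul_smul := fun a b k => Subtype.ext (Subtype.ext (by
        change ((a * b : zpowers y) : G) * (k.1 : G) * ((a * b : zpowers y) : G)⁻¹ =
          (a : G) * ((b : G) * (k.1 : G) * (b : G)⁻¹) * (a : G)⁻¹
        simp only [mul_assoc, _root_.Subgroup.coe_mul, _root_.ne_eq, _root_.mul_inv_rev])) }
  refine Cfsg.Agent.H396.ThreeOnTwo.dvd_card_of_index (A := zpowers y) (m := 9) fun k => ?_
  have hst : stabilizer (zpowers y) k = ⊥ := by
    rw [eq_bot_iff]
    rintro ⟨x, hx⟩ hs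
    rw [mem_stabilizer_iff] at hs
    have h1 : x * (k.1 : G) * x⁻¹ = k.1 := congrArg (fun z => ((z.1 : K) : G)) hs
    have h2 : x * (k.1 : G) = k.1 * x := mul_inv_eq_iff_eq_mul.1 h1
    rw [Subgroup.mem_bot]
    by_contra hne
    have hx' := hx
    rw [← mem_powers_iff_mem_zpowers] at hx'
    obtain ⟨i, hi⟩ := Submonoid.mem_powers_iff _ _ |>.1 hx'
    have hi9 : i % 9 ≠ 0 := by
      intro h3
      apply hne
      apply Subtype.ext
      change x = 1
      rw [← hi, ← orderOf_dvd_iff_pow_eq_one, hy]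
      exact Nat.dvd_of_mod_eq_zero h3
    obtain ⟨j, hj⟩ := exists_mul_mod i hi9
    apply k.2
    have h3 : x ^ j = y ^ 3 := by
      rw [← hi, ← pow_mul, ← pow_mod_orderOf y (i * j), hy, hj]
    have h4 := (Commute.pow_left (show Commute x (k.1 : G) from h2) j).eq
    rwa [h3] at h4
  have h1 : (stabilizer (zpowers y) k).index = 9 := by
    rw [hst, Subgroup.index_bot, Nat.card_zpowers, hy]
  rw [h1]

theorem card_of_nine {y : G} (hy : orderOf y = 9) {K : Subgroup G} (hK : y ∈ normalizer (K : Set G)) {a : ℕ}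
    (ha : a ≤ 6) (hc : Nat.card K = 2 ^ a) (hne : ∃ k ∈ K, y ^ 3 * k ≠ k * y ^ 3) :
    Nat.card K = 64 ∧ ∀ k ∈ K, y ^ 3 * k = k * y ^ 3 → k = 1 := by
  have h9 := nine_dvd hy hK
  have hsum : Nat.card K = Nat.card (K ⊓ centralizer ({y ^ 3} : Set G) : Subgroup G) +
      Nat.card {k : K // y ^ 3 * (k : G) ≠ k * y ^ 3} := by
    classical
    have := Fintype.ofFinite K
    have e1 : Nat.card (K ⊓ centralizer ({y ^ 3} : Set G) : Subgroup G) =
        Nat.card {k : K // y ^ 3 * (k : G) = k * y ^ 3} := by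
      refine Nat.card_congr
        { toFun := fun k => ⟨⟨k, k.2.1⟩, (mem_centralizer_singleton_iff.1 k.2.2).symm⟩
          invFun := fun k => ⟨k.1, k.1.2, mem_centralizer_singleton_iff.2 k.2.symm⟩
          left_inv := fun k => rfl
          right_inv := fun k => rfl }
    rw [e1, Nat.card_eq_fintype_card, Nat.card_eq_fintype_card, Nat.card_eq_fintype_card]
    have e2 := Fintype.card_subtype_compl (fun k : K => y ^ 3 * (k : G) = k * y ^ 3)
    have e3 := Fintype.card_subtype_le (fun k : K => y ^ 3 * (k : G) = k * y ^ 3)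
    have e4 : Fintype.card {k : K // y ^ 3 * (k : G) ≠ k * y ^ 3} =
        Fintype.card {k : K // ¬ y ^ 3 * (k : G) = k * y ^ 3} := rfl
    rw [e4, e2]
    omega
  have hd : Nat.card (K ⊓ centralizer ({y ^ 3} : Set G) : Subgroup G) ∣ 2 ^ a := by
    rw [← hc]; exact Subgroup.card_dvd_of_le inf_le_left
  obtain ⟨b, hb, hb'⟩ := (Nat.dvd_prime_pow Nat.prime_two).1 hd
  obtain ⟨e, he⟩ := h9
  rw [hc, hb', he] at hsum
  have hpos : 0 < Nat.card {k : K // y ^ 3 * (k : G) ≠ k * y ^ 3} := by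
    obtain ⟨k, hk, hk'⟩ := hne
    have : Nonempty {k : K // y ^ 3 * (k : G) ≠ k * y ^ 3} := ⟨⟨⟨k, hk⟩, hk'⟩⟩
    exact Nat.card_pos
  rw [he] at hpos
  have hab : a = 6 ∧ b = 0 := by
    interval_cases a <;> interval_cases b <;> simp only [Nat.reducePow] at hsum <;>
      first | (constructor <;> rfl) | (clear * - hpos hsum; omega)
  obtain ⟨rfl, rfl⟩ := hab
  refine ⟨by rw [hc]; norm_num, fun k hk hk' => ?_⟩
  have h1 : (K ⊓ centralizer ({y ^ 3} : Set G) : Subgroup G) = ⊥ := Subgroup.eq_bot_of_card_eq _ (by rw [hb', pow_zero])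
  have h2 : k ∈ (K ⊓ centralizer ({y ^ 3} : Set G) : Subgroup G) := ⟨hk, mem_centralizer_singleton_iff.2 hk'.symm⟩
  rw [h1] at h2
  exact h2

theorem exists_W {y : G} (h : Nat.card G ∣ 2 ^ 6 * 3 ^ 6) (hO : ∀ V : Subgroup G, V.Normal → IsPGroup 3 V → V = ⊥)
    (hy : orderOf y = 9) : ∃ W : Subgroup G, Nat.card W = 64 ∧ ∀ w ∈ W, w ^ 2 = 1 := by
  have i2 : Fact (Nat.Prime 2) := ⟨Nat.prime_two⟩
  have i3 : Fact (Nat.Prime 3) := ⟨Nat.prime_three⟩
  obtain ⟨a, b, ha, hb, hab⟩ : ∃ a b, a ≤ 6 ∧ b ≤ 6 ∧ Nat.card G = 2 ^ a * 3 ^ b := by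
    obtain ⟨x, y, hx, hy, hxy⟩ := Nat.dvd_mul.1 h
    obtain ⟨a, ha, rfl⟩ := (Nat.dvd_prime_pow Nat.prime_two).1 hx
    obtain ⟨b, hb, rfl⟩ := (Nat.dvd_prime_pow Nat.prime_three).1 hy
    exact ⟨a, b, ha, hb, hxy.symm⟩
  have hs : Group.IsSolvable G := S0144.result 2 3 a b Nat.prime_two Nat.prime_three hab
  have hO' : pPrimeCore 2 G = ⊥ := by
    refine hO _ (Lib.HallHigman.pPrimeCore_normal 2) ?_
    have h1 := Lib.HallHigman.pPrimeCore_coprime (G := G) 2
    have h2 : Nat.card (pPrimeCore 2 G) ∣ 2 ^ a * 3 ^ b := by rw [← hab]; exact Subgroup.card_subgroup_dvd_card _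
    have h3 : Nat.card (pPrimeCore 2 G) ∣ 3 ^ b := (Nat.Coprime.pow_right a h1).dvd_of_dvd_mul_left h2
    obtain ⟨c, -, hc⟩ := (Nat.dvd_prime_pow Nat.prime_three).1 h3
    exact IsPGroup.of_card hc
  have hC := Lib.HallHigman.centralizer_pCore_le_of_solvable 2 hO'
  set W : Subgroup G := pCore 2 G with hWdef
  have hWn : W.Normal := Lib.HallHigman.pCore_normal 2
  have hWp : IsPGroup 2 W := Lib.HallHigman.pCore_isPGroup 2
  have hcard : ∀ K : Subgroup G, K ≤ W → ∃ k ≤ 6, Nat.card K = 2 ^ k := by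
    intro K hK
    obtain ⟨k, hk⟩ := IsPGroup.iff_card.1 (hWp.to_le hK)
    refine ⟨k, ?_, hk⟩
    have h1 : 2 ^ k ∣ 2 ^ 6 * 3 ^ 6 := by rw [← hk]; exact (Subgroup.card_subgroup_dvd_card K).trans h
    have h2 : 2 ^ k ∣ 2 ^ 6 := (Nat.Coprime.pow k 6 (by norm_num)).dvd_of_dvd_mul_right h1
    exact (Nat.pow_dvd_pow_iff_le_right (by norm_num)).1 h2
  have hnorm : ∀ K : Subgroup G, K.Normal → y ∈ normalizer (K : Set G) := fun K hK => by
    rw [Subgroup.normalizer_eq_top_iff.mpr hK]; trivial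
  have hy3 : orderOf (y ^ 3) = 3 := by
    rw [orderOf_pow' y (by norm_num), hy]
    rfl
  -- `y ^ 3` does not centralise `W`
  obtain ⟨w0, hw0, hne0⟩ : ∃ k ∈ W, y ^ 3 * k ≠ k * y ^ 3 := by
    by_contra hcon
    push Not at hcon
    have h2 : y ^ 3 ∈ centralizer (W : Set G) := by
      rw [mem_centralizer_iff]
      exact fun w hw => (hcon w hw).symm
    have h3 : y ^ 3 ∈ W := hC h2
    obtain ⟨k, -, hk⟩ := hcard W le_rfl
    have h4 : orderOf (⟨y ^ 3, h3⟩ : W) ∣ Nat.card W := _root_.orderOf_dvd_natCard _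
    rw [Subgroup.orderOf_mk, hy3, hk] at h4
    have := (Nat.prime_dvd_prime_iff_eq Nat.prime_three Nat.prime_two).1 (Nat.prime_three.dvd_of_dvd_pow h4)
    omega
  obtain ⟨k, hk6, hk⟩ := hcard W le_rfl
  obtain ⟨hW64, hfix⟩ := card_of_nine hy (hnorm W hWn) hk6 hk ⟨w0, hw0, hne0⟩
  -- invariant subgroups of `W` are trivial or `W`
  have key : ∀ K : Subgroup G, K ≤ W → K.Normal → K ≠ ⊥ → K = W := by
    intro K hKW hKn hK1
    obtain ⟨⟨x, hx⟩, hx2⟩ := Subgroup.ne_bot_iff_exists_ne_one.1 hK1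
    have hx1 : x ≠ 1 := fun h => hx2 (Subtype.ext h)
    obtain ⟨j, hj6, hj⟩ := hcard K hKW
    obtain ⟨h1, -⟩ := card_of_nine hy (hnorm K hKn) hj6 hj ⟨x, hx, fun h => hx1 (hfix x (hKW hx) h)⟩
    exact Subgroup.eq_of_le_of_card_ge hKW (by rw [hW64, h1])
  -- the centre
  have hZn : (W ⊓ centralizer (W : Set G)).Normal := inferInstance
  have hWnt : Nontrivial W := by
    refine ⟨⟨⟨w0, hw0⟩, 1, fun h => hne0 ?_⟩⟩
    have h1 : w0 = 1 := congrArg Subtype.val h
    rw [h1, mul_one, one_mul]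
  have hZ : W ⊓ centralizer (W : Set G) = W := by
    refine key _ inf_le_left hZn ?_
    have h1 : Nontrivial (Subgroup.center W) := hWp.center_nontrivial
    obtain ⟨⟨z, hz⟩, hz1⟩ := exists_ne (1 : Subgroup.center W)
    intro h2
    apply hz1
    apply Subtype.ext
    apply Subtype.ext
    have h3 : (z : G) ∈ W ⊓ centralizer (W : Set G) := by
      refine ⟨z.2, ?_⟩
      refine mem_centralizer_iff.2 ?_
      intro w hw
      exact congrArg Subtype.val (Subgroup.mem_center_iff.1 hz ⟨w, hw⟩)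
    rw [h2] at h3
    exact h3
  have hab : ∀ x ∈ W, ∀ z ∈ W, x * z = z * x := by
    intro x hx z hz
    rw [← hZ] at hz
    exact (mem_centralizer_iff.1 hz.2 x hx)
  -- the elements of order two
  let Om : Subgroup G :=
    { carrier := {w | w ∈ W ∧ w ^ 2 = 1}
      one_mem' := ⟨W.one_mem, one_pow 2⟩
      mul_mem' := fun {a b} ha hb => ⟨W.mul_mem ha.1 hb.1, by
        rw [(show Commute a b from hab a ha.1 b hb.1).mul_pow, ha.2, hb.2, one_mul]⟩
      inv_mem' := fun {a} ha => ⟨W.inv_mem ha.1, by rw [inv_pow, ha.2, inv_one]⟩ }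
  have hOmW : Om ≤ W := fun w hw => hw.1
  have hOmn : Om.Normal := ⟨fun w hw g => ⟨hWn.conj_mem w hw.1 g, by rw [conj_pow, hw.2, mul_one, mul_inv_cancel]⟩⟩
  have hOm1 : Om ≠ ⊥ := by
    have h2 : 2 ∣ Nat.card W := by rw [hW64]; norm_num
    obtain ⟨w, hw⟩ := exists_prime_orderOf_dvd_card' 2 h2
    intro h3
    have h4 : (w : G) ∈ Om := ⟨w.2, by rw [← hw, ← Subgroup.orderOf_coe, pow_orderOf_eq_one]⟩
    rw [h3, Subgroup.mem_bot] at h4
    have h5 : w = 1 := Subtype.ext h4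
    rw [h5, orderOf_one] at hw
    omega
  have hOm := key Om hOmW hOmn hOm1
  refine ⟨W, hW64, fun w hw => ?_⟩
  rw [← hOm] at hw
  exact hw.2

end Cfsg.Agent.H394.Der.Nine
end

-- part: H394/Der/Par3
section
/-!
# `3'`-subgroups normalising a `3`-subgroup of `G₂(3)` (helper394, after helper316)

`card_dvd_sixteen` : a copy of `H316.Ab.G2Row.card_dvd_sixteen` with a small import closure.
-/

set_option autoImplicit false
set_option linter.unusedSectionVars false

namespace Cfsg.Agent.H394.Der.Par3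

open Cfsg Cfsg.Lie
open Subgroup CoxeterSystem Cfsg.Agent.ChevalleyStructure.CoxeterGeom Cfsg.Agent.Tits.Roots Cfsg.Agent.Tits.Core
  Cfsg.Agent.Tits.Exchange Cfsg.Agent.Nodes.Reps Cfsg.Agent.Nodes.BNOf Cfsg.Agent.Nodes.StabComb
  Cfsg.Agent.Nodes.Bruhat Cfsg.Agent.Nodes.RGDLib Cfsg.Agent.Nodes.LeviDec
open Cfsg.Agent.ChevalleyStructure Cfsg.Agent.ChevalleyStructure.Elts
  Cfsg.Agent.ChevalleyStructure.RootVec Cfsg.Agent.ChevalleyStructure.RootVecTab
  Cfsg.Agent.ChevalleyStructure.NPerm Cfsg.Agent.ChevalleyStructure.CoxeterGeomTypes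
open Cfsg.Agent.Nodes Cfsg.Agent.Nodes.RGDChev Cfsg.Agent.KFacts.RgdBorelTits
open Cfsg.Agent.H35.ExcIdx (TT XX)

theorem card_map_conj {G : Type*} [Group G] (A : Subgroup G) (g : G) :
    Nat.card (A.map (MulAut.conj g).toMonoidHom) = Nat.card A :=
  Nat.card_congr (A.equivMapOfInjective _ (MulAut.conj g).injective).symm.toEquiv

variable {F : Type} [Field F] [Fintype F]

/-- the parabolic subgroups of rank 1 -/
theorem card_PJ_single {I W Y : Type*} [Fintype I] [DecidableEq I] [Group W] [Group Y] {M : CoxeterMatrix I}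
    {cs : CoxeterSystem M W} {A : I → I → ℤ} {h : IsCartan M A} {p : ℕ} {T : Subgroup Y} {n : I → Y}
    {X : (I → ℤ) → Subgroup Y} (R : RGD cs h p T n X) [Finite W] [Finite Y] (i : I) {y : ℕ}
    (hy : Nat.card (X (sr i)) = y) :
    Nat.card ↥(PJ cs h T X {i}) = (1 + y) * (Nat.card ↥(RGD.Sup X (RGD.Pos cs h)) * Nat.card ↥T) := by
  have hP : H35.Poin.APath A {i} (fun _ => i) 1 :=
    ⟨fun _ _ => rfl, fun t ht => absurd ht (by omega), fun s t _ _ => absurd (show False by omega) id,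
      fun j hj h1 => absurd (Set.mem_singleton_iff.1 hj).symm (h1 0 (by norm_num)), fun s hs t ht _ => by omega⟩
  have h1 := H35.Poin.card_PJ_path R hP (y := y) (fun _ _ => hy)
  have h2 : ({i} : Set I) \ {j | ∃ t < 1, (fun _ => i) t = j} = ∅ := by
    ext j
    simp only [Set.mem_sdiff, Set.mem_singleton_iff, Set.mem_ofPred_eq, Set.mem_empty_iff_false, iff_false, not_and,
      not_not]
    rintro rfl
    exact ⟨0, by norm_num, rfl⟩
  rw [h2, H35.Poin.PJ_empty, H35.Poin.card_B' R] at h1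
  rw [h1]
  congr 1
  simp [Finset.sum_range_succ]

theorem hpG2 : IsType chevG2 2 CoxeterMatrix.G₂ := by simp [IsType, typeList]

theorem char_three (hF : Fintype.card F = 3) : CharP F 3 := by
  obtain ⟨p, hp⟩ := CharP.exists F
  have hpp : p.Prime := CharP.char_is_prime F p
  obtain ⟨n, -, hn⟩ := FiniteField.card F p
  rw [hF] at hn
  have h1 : 3 ∣ p := Nat.prime_three.dvd_of_dvd_pow (n := n) (by rw [← hn])
  have h2 := (Nat.prime_dvd_prime_iff_eq Nat.prime_three hpp).1 h1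
  subst h2
  exact hp

theorem card_torus (hF : Fintype.card F = 3) : Nat.card ↥(TT chevG2 F) = 4 := by
  have h1 : Nat.card (TT chevG2 F) = Nat.card (chevG2.diagonalSubgroup F) :=
    Nat.card_congr (Subgroup.subgroupOfEquivOfLe (diagonal_le_group hpG2.inList F)).toEquiv
  have h2 : 1 * Nat.card (chevG2.diagonalSubgroup F) = (3 - 1) ^ 2 := S1035.result hF (chevG2, 1) (by simp)
  rw [h1, ← one_mul (Nat.card (chevG2.diagonalSubgroup F)), h2]
  norm_num

theorem card_G2_three (hF : Fintype.card F = 3) : Nat.card ↥(chevG2.group F) = 4245696 := by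
  rw [S1059.result hF]
  norm_num

/-- **A `3'`-subgroup normalising a nontrivial `3`-subgroup has order dividing `16`.** -/
theorem card_dvd_sixteen (hF : Fintype.card F = 3) {S K : Subgroup ↥(chevG2.group F)} (hS : ¬ 3 ∣ Nat.card S)
    (hK : IsPGroup 3 K) (hK1 : K ≠ ⊥) (hSK : S ≤ normalizer (K : Set ↥(chevG2.group F))) : Nat.card S ∣ 16 := by
  have i3 : Fact (Nat.Prime 3) := ⟨Nat.prime_three⟩
  have hchar := char_three hF
  have hW := finite_W hpG2 CoxeterMatrix.G₂.toCoxeterSystem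
  have hfin : Finite ↥(chevG2.group F) := Nat.finite_of_card_ne_zero (by rw [card_G2_three hF]; norm_num)
  have hFil := KFacts.RgdFiltChev.filt (K := F) hpG2 CoxeterMatrix.G₂.toCoxeterSystem 3
  have hG := H35.ExcIdx.GG_eq_top hpG2 F CoxeterMatrix.G₂.toCoxeterSystem
  have R := rgd (K := F) hpG2 CoxeterMatrix.G₂.toCoxeterSystem 3
  obtain ⟨g, J, hJ, -, hle⟩ := borel_tits hFil hG hK hK1
  have hU : IsPGroup 3 ↥(RGD.Sup (XX chevG2 2 F) (RGD.Pos CoxeterMatrix.G₂.toCoxeterSystem hpG2.isCartan)) :=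
    R.isPGroup_Upos
  obtain ⟨k, hk⟩ := IsPGroup.iff_card.1 hU
  have hX : ∀ i : Fin 2, Nat.card ↥(XX chevG2 2 F (sr i)) = 3 := by
    intro i
    have h1 := H35.ExcIdx.card_XX hpG2 F CoxeterMatrix.G₂.toCoxeterSystem
      (isRoot_sr CoxeterMatrix.G₂.toCoxeterSystem hpG2.isCartan i)
    rw [h1, Nat.card_eq_fintype_card, hF]
  have hT := card_torus hF
  -- the order of the parabolic subgroup divides `3 ^ k * 16`
  have hPJ : Nat.card ↥(PJ CoxeterMatrix.G₂.toCoxeterSystem hpG2.isCartan (TT chevG2 F) (XX chevG2 2 F) J) ∣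
      3 ^ k * 16 := by
    by_cases h0 : J = ∅
    · rw [h0, H35.Poin.PJ_empty, H35.Poin.card_B' R, hT, hk]
      exact Nat.mul_dvd_mul_left _ (by norm_num)
    · obtain ⟨i, hi⟩ := Set.nonempty_iff_ne_empty.2 h0
      have h1 : J = {i} := by
        ext j
        rw [Set.mem_singleton_iff]
        constructor
        · intro hj
          by_contra hji
          apply hJ
          ext t
          simp only [Set.mem_univ, iff_true]
          have : t = i ∨ t = j := by (clear * - hji; omega)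
          rcases this with rfl | rfl
          · exact hi
          · exact hj
        · rintro rfl
          exact hi
      rw [h1, card_PJ_single R i (hX i), hT, hk]
      exact ⟨1, by ring⟩
  have h2 : Nat.card S ∣ 3 ^ k * 16 := by
    have h3 := Subgroup.card_dvd_of_le (hSK.trans hle)
    refine h3.trans ?_
    have h4 : Nat.card ↥(cj g (PJ CoxeterMatrix.G₂.toCoxeterSystem hpG2.isCartan (TT chevG2 F) (XX chevG2 2 F) J)) =
        Nat.card ↥(PJ CoxeterMatrix.G₂.toCoxeterSystem hpG2.isCartan (TT chevG2 F) (XX chevG2 2 F) J) :=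
      card_map_conj _ g
    rw [h4]
    exact hPJ
  refine Nat.Coprime.dvd_of_dvd_mul_left ?_ h2
  exact Nat.Coprime.pow_right _ ((Nat.Prime.coprime_iff_not_dvd Nat.prime_three).2 hS).symm

end Cfsg.Agent.H394.Der.Par3
end

-- part: H394/Der/G23
section
/-!
# Classes of derangements: `G₂(3)` (helper394, tasks 2396, 2983)

`main` : every proper subgroup `M` of `G₂(3)` is `Two`, and `Fin3` if it is not maximal.
-/

set_option autoImplicit false

namespace Cfsg.Agent.H394.Der.G23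

open Subgroup Cfsg Cfsg.Lie Cfsg.Agent.H439.Der Cfsg.Agent.H970.StabNum Cfsg.Agent.H251.Small Cfsg.Agent.OrdDiv
open Cfsg.Agent.H834.Sax Cfsg.Agent.H938.Sax

variable {F : Type} [Field F] [Fintype F]

theorem hasOrd (hF : Fintype.card F = 3) {N : ℕ} (hN : N = 12 ∨ N = 8 ∨ N = 13 ∨ N = 7 ∨ N = 9) :
    ∃ x : ↥(chevG2.group F), orderOf x = N := by
  have i3 : Fact (Nat.Prime 3) := ⟨Nat.prime_three⟩
  exact H161.G2Main.lower (F := F) (p := 3) (n := 1) (N := N) one_ne_zero (by rw [hF]; norm_num) (by norm_num) (by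
    rcases hN with rfl | rfl | rfl | rfl | rfl <;> norm_num)

theorem hasOrd_four (hF : Fintype.card F = 3) : ∃ x : ↥(chevG2.group F), orderOf x = 4 := by
  obtain ⟨x, hx⟩ := hasOrd hF (N := 8) (by norm_num)
  exact exists_of_dvd ⟨x, hx⟩ (by norm_num)

theorem noInv (hF : Fintype.card F = 3) {p : ℕ} (hp : p = 7 ∨ p = 13) : NoInv ↥(chevG2.group F) p 3 := by
  have hc := Par3.char_three hF
  rcases hp with rfl | rfl
  · exact ⟨Nat.prime_three, fun x hx Q hQ hn => H396.ParG23.nn7 hF x hx Q hQ hn⟩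
  · exact ⟨Nat.prime_three, fun x hx Q hQ hn => H396.ParG23.nn13 hF x hx Q hQ hn⟩

theorem not_SCC' (hF : Fintype.card F = 3) {v : ℕ} (hv : v = 2 ∨ v = 3) : ¬ SCC ↥(chevG2.group F) v := by
  refine not_SCC_g2_near (p := 3) (f := 1) Nat.prime_three (by rw [hF]; norm_num) (by norm_num)
    (by rcases hv with rfl | rfl <;> norm_num) ?_
  rcases hv with rfl | rfl
  · right; norm_num
  · left; rfl

theorem three_of_not_dvd (hF : Fintype.card F = 3) {v : ℕ} (hv : v = 2 ∨ v = 3) {M : Subgroup ↥(chevG2.group F)}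
    (h : ¬ v ∣ Nat.card M) : Three ↥(chevG2.group F) M := by
  refine Three.of_not_dvd h (not_SCC' hF hv) ?_
  have hpv : Fact v.Prime := ⟨by rcases hv with rfl | rfl <;> norm_num⟩
  have hd : v ∣ Nat.card ↥(chevG2.group F) := by
    rw [card_g23 hF]
    rcases hv with rfl | rfl <;> norm_num
  obtain ⟨x, hx⟩ := exists_prime_orderOf_dvd_card' v hd
  exact ⟨x, by rw [hx]⟩

/-- two classes of elements of order `13` -/
theorem exists_thirteen (hF : Fintype.card F = 3) :
    ∃ x y : ↥(chevG2.group F), orderOf x = 13 ∧ orderOf y = 13 ∧ ∀ g : ↥(chevG2.group F), g * x * g⁻¹ ≠ y := by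
  obtain ⟨x, hx⟩ := hasOrd hF (N := 13) (by norm_num)
  have h1 := card_conjPow (T := ↥(chevG2.group F)) (v := 13) (K := 326592) (m := 6) (by norm_num)
    (Cfsg.Agent.H129.CycT.exact_G2_3 (F := F) (q := 3) hF (by norm_num) (by norm_num)) (by rw [card_g23 hF])
    (by decide) (by norm_num) (by norm_num) hx
  obtain ⟨y, hy, hxy⟩ := exists_pow_not_conj hx (by rw [h1, Nat.totient_prime (by norm_num)]; norm_num)
  exact ⟨x, y, hx, hy, hxy⟩

theorem out_two (hF : Fintype.card F = 3) : Nat.card (Cfsg.Out ↥(chevG2.group F)) = 2 := by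
  have i3 : Fact (Nat.Prime 3) := ⟨Nat.prime_three⟩
  have hc := Par3.char_three hF
  rw [S2121.result 3 1 (by rw [hF]; norm_num) (by norm_num)]
  rfl

theorem noOne (hF : Fintype.card F = 3) {M : Subgroup ↥(chevG2.group F)} (h : ¬ 64 ∣ Nat.card M) :
    NoOne ↥(chevG2.group F) M :=
  noOne_of_two (out_two hF) (e := 6) (by rw [card_g23 hF]; norm_num) (by norm_num only []; exact h)

/-! ### `{2, 3}`-subgroups of odd index -/

theorem no_nine (hF : Fintype.card F = 3) {M : Subgroup ↥(chevG2.group F)} (h7 : ¬ 7 ∣ Nat.card M)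
    (h13 : ¬ 13 ∣ Nat.card M) (h64 : 64 ∣ Nat.card M) : ∀ m ∈ M, orderOf m ≠ 9 := by
  intro y hyM hy
  have hcard := card_g23 hF
  have i2 : Fact (Nat.Prime 2) := ⟨Nat.prime_two⟩
  have hdd : Nat.card M ∣ 2 ^ 6 * 3 ^ 6 := by
    have h0 : Nat.card M ∣ 4245696 := by rw [← hcard]; exact Subgroup.card_subgroup_dvd_card M
    have h1 : Nat.Coprime (Nat.card M) (7 * 13) := by
      refine Nat.Coprime.mul_right ?_ ?_
      · exact ((Nat.Prime.coprime_iff_not_dvd (by norm_num)).2 h7).symm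
      · exact ((Nat.Prime.coprime_iff_not_dvd (by norm_num)).2 h13).symm
    refine h1.dvd_of_dvd_mul_left ?_
    norm_num only []
    exact h0
  -- a subgroup of order `64`
  obtain ⟨S, hS⟩ := Sylow.exists_subgroup_card_pow_prime (G := ↥M) 2 (n := 6) (by norm_num; exact h64)
  have hS' : Nat.card (S.map M.subtype) = 64 := by
    rw [Nat.card_congr (Subgroup.equivMapOfInjective _ M.subtype M.subtype_injective).toEquiv.symm, hS]
    norm_num
  obtain ⟨W, hW, hW2⟩ := Nine.exists_W (G := ↥M) (y := ⟨y, hyM⟩) hdd (by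
    intro V hVn hV
    by_contra hV1
    have h1 := Par3.card_dvd_sixteen hF (S := S.map M.subtype) (K := V.map M.subtype) (by rw [hS']; norm_num)
      (hV.map M.subtype) (by
        intro h2
        exact hV1 ((Subgroup.map_eq_bot_iff_of_injective _ M.subtype_injective).1 h2)) (by
        have h2 := Subgroup.le_normalizer_map M.subtype (H := V)
        rw [Subgroup.normalizer_eq_top_iff.mpr hVn] at h2
        exact (Subgroup.map_mono le_top).trans h2)
    rw [hS'] at h1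
    revert h1
    norm_num) (by rw [Subgroup.orderOf_mk]; exact hy)
  have hW' : Nat.card (W.map M.subtype) = 2 ^ (Nat.card ↥(chevG2.group F)).factorization 2 := by
    rw [Nat.card_congr (Subgroup.equivMapOfInjective _ M.subtype M.subtype_injective).toEquiv.symm, hW, hcard]
    rw [show (4245696 : ℕ) = 2 ^ 6 * 66339 by norm_num, Nat.factorization_mul (by norm_num) (by norm_num),
      Nat.factorization_pow]
    simp [Nat.prime_two.factorization_self, Nat.factorization_eq_zero_of_not_dvd (show ¬ 2 ∣ 66339 by norm_num)]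
  obtain ⟨x, hx⟩ := hasOrd hF (N := 8) (by norm_num)
  have hxp : IsPGroup 2 (zpowers x) := IsPGroup.of_card (n := 3) (by rw [Nat.card_zpowers, hx]; norm_num)
  obtain ⟨P, hP⟩ := hxp.exists_le_sylow
  obtain ⟨g, hg⟩ := MulAction.exists_smul_eq ↥(chevG2.group F) P (Sylow.ofCard (W.map M.subtype) hW')
  have h1 : g * x * g⁻¹ ∈ W.map M.subtype := by
    have h2 : g * x * g⁻¹ ∈ ((g • P : Sylow 2 ↥(chevG2.group F)) : Subgroup ↥(chevG2.group F)) := by
      rw [Sylow.coe_subgroup_smul]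
      exact ⟨x, hP (mem_zpowers x), rfl⟩
    rw [hg] at h2
    exact h2
  obtain ⟨w, hw, hwx⟩ := h1
  have h2 : (g * x * g⁻¹) ^ 2 = 1 := by
    rw [← hwx, ← map_pow, hW2 w hw, map_one]
  rw [conj_pow, conj_eq_one_iff] at h2
  have h3 := orderOf_dvd_of_pow_eq_one h2
  rw [hx] at h3
  revert h3
  norm_num

/-! ### subgroups of order divisible by `7` or `13` -/

def out7 : List (ℕ × ℕ × ℕ) :=
  [(7, 1, 7), (14, 2, 7), (21, 3, 7), (42, 6, 7), (56, 1, 7), (112, 2, 7), (168, 3, 7), (168, 1, 168), (336, 6, 7),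
    (336, 2, 168), (448, 1, 7), (504, 1, 504), (1344, 3, 7), (1344, 1, 168), (1512, 3, 504),
    (4032, 1, 504), (6048, 1, 6048), (12096, 3, 504), (12096, 2, 6048)]

def out13 : List (ℕ × ℕ × ℕ) :=
  [(13, 1, 13), (26, 2, 13), (39, 3, 13), (78, 6, 13), (5616, 1, 5616), (11232, 2, 5616), (4245696, 1, 4245696)]

section

variable (OT : OrderTable.{0}) (hS : ∀ (X : Type) [Group X] [Finite X] [IsSimpleGroup X], Cfsg.IsKnownSimple' X)

include OT hS

theorem str7 (hF : Fintype.card F = 3) (M : Subgroup ↥(chevG2.group F)) (h : 7 ∣ Nat.card M)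
    (h13 : ¬ 13 ∣ Nat.card M) :
    ∃ (L : Subgroup M) (R : Subgroup L) (_ : R.Normal), L.Normal ∧ (R.map L.subtype).Normal ∧
      Nat.card M = Nat.card R * Nat.card (L ⧸ R) * L.index ∧ IsSimpleGroup (L ⧸ R) ∧
      (Nat.card (L ⧸ R) = 7 ∨ ¬ ∀ x y : L ⧸ R, x * y = y * x) ∧
      (Nat.card M, L.index, Nat.card (L ⧸ R)) ∈ out7 := by
  obtain ⟨L, R, h1, h2, h3, h4, h5, h6, h7⟩ := exists_LR_all (data_g23 OT hS hF) M (p := 7) (k := 1) (M := 6)
    (by simp) h (bad := [3]) (by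
      intro r hr
      rw [List.mem_singleton] at hr
      subst hr
      exact noInv hF (Or.inl rfl)) (l := [(2, 6), (3, 6), (7, 1), (13, 1)]) (by rw [card_g23 hF]; decide +kernel)
    (P := fun t => Nat.beq (t.1 % 13) 0 || out7.contains t) (by decide +kernel)
  refine ⟨L, R, h1, h2, h3, h4, h5, h6, ?_⟩
  simp only [Bool.or_eq_true, List.contains_iff_mem] at h7
  rcases h7 with h7 | h7
  · exact absurd (Nat.dvd_of_mod_eq_zero (Nat.eq_of_beq_eq_true h7)) h13
  · exact h7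

theorem str13 (hF : Fintype.card F = 3) (M : Subgroup ↥(chevG2.group F)) (h : 13 ∣ Nat.card M)
    (h7' : ¬ 7 ∣ Nat.card M) :
    ∃ (L : Subgroup M) (R : Subgroup L) (_ : R.Normal), L.Normal ∧ (R.map L.subtype).Normal ∧
      Nat.card M = Nat.card R * Nat.card (L ⧸ R) * L.index ∧ IsSimpleGroup (L ⧸ R) ∧
      (Nat.card (L ⧸ R) = 13 ∨ ¬ ∀ x y : L ⧸ R, x * y = y * x) ∧
      (Nat.card M, L.index, Nat.card (L ⧸ R)) ∈ out13 := by
  obtain ⟨L, R, h1, h2, h3, h4, h5, h6, h7⟩ := exists_LR_all (data_g23 OT hS hF) M (p := 13) (k := 1) (M := 6)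
    (by simp) h (bad := [3]) (by
      intro r hr
      rw [List.mem_singleton] at hr
      subst hr
      exact noInv hF (Or.inr rfl)) (l := [(2, 6), (3, 6), (7, 1), (13, 1)]) (by rw [card_g23 hF]; decide +kernel)
    (P := fun t => Nat.beq (t.1 % 7) 0 || out13.contains t) (by decide +kernel)
  refine ⟨L, R, h1, h2, h3, h4, h5, h6, ?_⟩
  simp only [Bool.or_eq_true, List.contains_iff_mem] at h7
  rcases h7 with h7 | h7
  · exact absurd (Nat.dvd_of_mod_eq_zero (Nat.eq_of_beq_eq_true h7)) h7'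
  · exact h7

omit OT hS in
/-- elements of order `7` do not commute with involutions -/
theorem not_comm_seven (hF : Fintype.card F = 3) {x z : ↥(chevG2.group F)} (hx : orderOf x = 7) (hz : orderOf z = 2) :
    x * z ≠ z * x := by
  intro h
  have hfin : Finite ↥(chevG2.group F) := Nat.finite_of_card_ne_zero (by rw [card_g23 hF]; norm_num)
  have h1 := (Cfsg.Agent.H129.CycT.exact_G2_6 (F := F) (q := 3) hF (N := 7) (by norm_num) (by norm_num))
  have h2 := Cfsg.Agent.H129.CycT.CycExact.card_centralizer (by norm_num) dvd_rfl h1 hx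
  have h3 : z ∈ centralizer ({x} : Set ↥(chevG2.group F)) := mem_centralizer_singleton_iff.2 h.symm
  have h4 : orderOf (⟨z, h3⟩ : centralizer ({x} : Set ↥(chevG2.group F))) ∣ _ := _root_.orderOf_dvd_natCard _
  rw [h2, Subgroup.orderOf_mk, hz] at h4
  revert h4
  norm_num

omit OT hS in
theorem no4032 (hF : Fintype.card F = 3) {M : Subgroup ↥(chevG2.group F)} {L : Subgroup M} {R : Subgroup L} [R.Normal]
    (h : Nat.card R = 8) (hK : IsSimpleGroup (L ⧸ R)) (hs : Nat.card (L ⧸ R) = 504) : False := by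
  refine kill8 h hK (by rw [hs]; norm_num) (by rw [hs]; norm_num) fun x hx z hz hxz => ?_
  refine not_comm_seven hF (x := ((x : M) : ↥(chevG2.group F))) (z := ((z : M) : ↥(chevG2.group F)))
    (by rw [Subgroup.orderOf_coe, Subgroup.orderOf_coe, hx]) (by rw [Subgroup.orderOf_coe, Subgroup.orderOf_coe, hz]) ?_
  exact congrArg (fun u : L => ((u : M) : ↥(chevG2.group F))) hxz

/-- subgroups of order divisible by `7` and not by `13` -/
theorem seven (hF : Fintype.card F = 3) {M : Subgroup ↥(chevG2.group F)} (h7 : 7 ∣ Nat.card M)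
    (h13 : ¬ 13 ∣ Nat.card M) :
    Nat.card M ∈ [7, 14, 21, 42, 56, 112, 168, 336, 504, 1512, 6048, 448, 1344, 12096] ∧
      (Nat.card M = 12096 → ∃ L : Subgroup M, L.Normal ∧ L.index = 2) ∧
    ((∀ m ∈ M, orderOf m ≠ 9) ∨ (∀ m ∈ M, orderOf m ≠ 8)) := by
  have hfin : Finite ↥(chevG2.group F) := Nat.finite_of_card_ne_zero (by rw [card_g23 hF]; norm_num)
  obtain ⟨L, R, hRn, hLn, hRH, h1, hsim, hab, hmem⟩ := str7 OT hS hF M h7 h13
  have no9' : Nat.card (L ⧸ R) = 6048 → Nat.card R = 1 → (L.index = 1 ∨ L.index = 2) → ∀ m ∈ M, orderOf m ≠ 9 := by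
    intro h2 h3 h4 m hm ho
    obtain ⟨y, hy⟩ := ord_quot (L := L) (R := R) (n := 9) (by rcases h4 with h4 | h4 <;> rw [h4] <;> norm_num)
      (by rw [h3]; norm_num) (x := ⟨m, hm⟩) (by rw [Subgroup.orderOf_mk]; exact ho)
    refine ord_6048 OT hS hsim ?_ h2 y hy
    rcases hab with h5 | h5
    · rw [h5] at h2; norm_num at h2
    · exact h5
  have no8 : (Nat.card M = 504 ∨ Nat.card M = 1512) → ∀ m ∈ M, orderOf m ≠ 8 := by
    intro h
    rcases h with h | h
    · refine no_order_two (k := 3) (data_g23 OT hS hF) (l := [(2, 6), (3, 6), (7, 1), (13, 1)]) (prs := [2, 3, 7])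
        (by rw [card_g23 hF]; decide +kernel) M (by norm_num) h (by norm_num) ?_ (by decide +kernel)
      intro r hr
      simp only [List.mem_cons, List.not_mem_nil, or_false] at hr
      rcases hr with rfl | rfl | rfl <;> norm_num
    · refine no_order_two (k := 3) (data_g23 OT hS hF) (l := [(2, 6), (3, 6), (7, 1), (13, 1)]) (prs := [2, 3, 7])
        (by rw [card_g23 hF]; decide +kernel) M (by norm_num) h (by norm_num) ?_ (by decide +kernel)
      intro r hr
      simp only [List.mem_cons, List.not_mem_nil, or_false] at hr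
      rcases hr with rfl | rfl | rfl <;> norm_num
  have hR : Nat.card R = Nat.card M / L.index / Nat.card (L ⧸ R) := by
    rw [h1, Nat.mul_div_cancel _ (Nat.pos_of_ne_zero Subgroup.index_ne_zero_of_finite), Nat.mul_div_cancel _ Nat.card_pos]
  have k9 : ∀ t ∈ out7, (t.1 % 9 ≠ 0 ∧ t.1 ∈ [7, 14, 21, 42, 56, 112, 168, 336, 448, 1344]) ∨ t = (504, 1, 504) ∨
      t = (1512, 3, 504) ∨ t = (4032, 1, 504) ∨ t = (6048, 1, 6048) ∨ t = (12096, 3, 504) ∨ t = (12096, 2, 6048) := by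
    decide
  rcases k9 _ hmem with ⟨h, h'⟩ | h | h | h | h | h | h
  · refine ⟨?_, fun h2 => ?_, Or.inl fun m hm ho => h ?_⟩
    · simp only at h'
      revert h'
      simp only [List.mem_cons, List.not_mem_nil, or_false]
      (clear * -; tauto)
    · simp only at h'
      rw [h2] at h'
      exact absurd h' (by decide)
    · have := Subgroup.orderOf_dvd_natCard M hm
      rw [ho] at this
      exact Nat.mod_eq_zero_of_dvd this
  all_goals simp only [Prod.mk.injEq] at h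
  all_goals obtain ⟨ha, hb, hc⟩ := h
  · exact ⟨by rw [ha]; decide, fun h => by rw [ha] at h; norm_num at h, Or.inr (no8 (Or.inl ha))⟩
  · exact ⟨by rw [ha]; decide, fun h => by rw [ha] at h; norm_num at h, Or.inr (no8 (Or.inr ha))⟩
  · exact (no4032 hF (by rw [hR, ha, hb, hc]) hsim hc).elim
  · exact ⟨by rw [ha]; decide, fun h => by rw [ha] at h; norm_num at h, Or.inl (no9' hc (by rw [hR, ha, hb, hc]) (Or.inl hb))⟩
  · exact (no4032 hF (by rw [hR, ha, hb, hc]) hsim hc).elim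
  · exact ⟨by rw [ha]; decide, fun _ => ⟨L, hLn, hb⟩, Or.inl (no9' hc (by rw [hR, ha, hb, hc]) (Or.inr hb))⟩

omit OT hS in
theorem card_inf_mul {G : Type*} [Group G] (A B : Subgroup G) :
    Nat.card (A ⊓ B : Subgroup G) * A.relIndex B = Nat.card B := by
  have h := Subgroup.card_mul_index (A.subgroupOf B)
  have e : Nat.card (A ⊓ B : Subgroup G) = Nat.card (A.subgroupOf B) := by
    rw [← Subgroup.inf_subgroupOf_right A B]
    exact (Nat.card_congr (Subgroup.subgroupOfEquivOfLe inf_le_right).toEquiv).symm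
  rw [e]
  exact h

/-- a subgroup of order `1344` is maximal -/
theorem no1344 (hF : Fintype.card F = 3) {R M : Subgroup ↥(chevG2.group F)} (hRM : R ≤ M)
    (hR : Nat.card R = 1344) {L : Subgroup M} (hL : L.Normal) (hL2 : L.index = 2) (hM : Nat.card M = 12096) : False := by
  have hfin : Finite ↥(chevG2.group F) := Nat.finite_of_card_ne_zero (by rw [card_g23 hF]; norm_num)
  have h1 : Nat.card (R.subgroupOf M) = 1344 := by
    rw [Nat.card_congr (Subgroup.subgroupOfEquivOfLe hRM).toEquiv, hR]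
  have h2 : L.relIndex (R.subgroupOf M) ∣ 2 := by
    rw [← hL2]; exact Subgroup.relIndex_dvd_index_of_normal L (R.subgroupOf M)
  have h3 : Nat.card (L ⊓ R.subgroupOf M : Subgroup M) * L.relIndex (R.subgroupOf M) = 1344 := by
    rw [card_inf_mul, h1]
  have h5 : Nat.card (L ⊓ R.subgroupOf M : Subgroup M) ∣ 6048 := by
    have h6 : Nat.card L = 6048 := by
      have := Subgroup.card_mul_index L
      rw [hL2, hM] at this
      omega
    rw [← h6]
    exact Subgroup.card_dvd_of_le inf_le_left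
  rcases (Nat.dvd_prime Nat.prime_two).1 h2 with h6 | h6
  · rw [h6, mul_one] at h3
    rw [h3] at h5
    revert h5
    norm_num
  · rw [h6] at h3
    have h7 : Nat.card ((L ⊓ R.subgroupOf M : Subgroup M).map M.subtype) = 672 := by
      rw [Nat.card_congr (Subgroup.equivMapOfInjective _ M.subtype M.subtype_injective).toEquiv.symm]
      omega
    obtain ⟨h8, -⟩ := seven OT hS hF (M := (L ⊓ R.subgroupOf M : Subgroup M).map M.subtype) (by rw [h7]; norm_num)
      (by rw [h7]; norm_num)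
    rw [h7] at h8
    revert h8
    decide

/-- the maximal subgroups containing a subgroup of order divisible by `6 * 7` -/
theorem coatom_seven (hF : Fintype.card F = 3) {M : Subgroup ↥(chevG2.group F)} (hM : M ≠ ⊤)
    (h : 42 ∣ Nat.card M) (h' : Nat.card M ≠ 1092) : ¬ 13 ∣ Nat.card M := by
  intro h13
  rcases pgap_g23 OT hS hF M hM with ⟨r, hr, hr1, hr2⟩ | h1
  · rw [card_g23 hF] at hr1
    have h2 : r ∣ 2 ^ 6 * 3 ^ 6 * 7 * 13 := by
      refine hr1.trans ?_
      norm_num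
    have h3 : r = 2 ∨ r = 3 ∨ r = 7 ∨ r = 13 := by
      rcases hr.dvd_mul.1 h2 with h2 | h2
      · rcases hr.dvd_mul.1 h2 with h2 | h2
        · rcases hr.dvd_mul.1 h2 with h2 | h2
          · exact Or.inl ((Nat.prime_dvd_prime_iff_eq hr Nat.prime_two).1 (hr.dvd_of_dvd_pow h2))
          · exact Or.inr (Or.inl ((Nat.prime_dvd_prime_iff_eq hr Nat.prime_three).1 (hr.dvd_of_dvd_pow h2)))
        · exact Or.inr (Or.inr (Or.inl ((Nat.prime_dvd_prime_iff_eq hr (by norm_num)).1 h2)))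
      · exact Or.inr (Or.inr (Or.inr ((Nat.prime_dvd_prime_iff_eq hr (by norm_num)).1 h2)))
    rcases h3 with rfl | rfl | rfl | rfl
    · exact hr2 ((by norm_num : 2 ∣ 42).trans h)
    · exact hr2 ((by norm_num : 3 ∣ 42).trans h)
    · exact hr2 ((by norm_num : 7 ∣ 42).trans h)
    · exact hr2 h13
  · exact h' h1

/-- **All proper subgroups of `G₂(3)`.** -/
theorem main (hF : Fintype.card F = 3) (M : Subgroup ↥(chevG2.group F)) (hM : M ≠ ⊤) :
    Two ↥(chevG2.group F) M ∧ (¬ IsCoatom M → Fin3 ↥(chevG2.group F) M) := by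
  have hcard := card_g23 hF
  have hfin : Finite ↥(chevG2.group F) := Nat.finite_of_card_ne_zero (by rw [hcard]; norm_num)
  have three : Three ↥(chevG2.group F) M → Two ↥(chevG2.group F) M ∧ (¬ IsCoatom M → Fin3 ↥(chevG2.group F) M) :=
    fun h => ⟨h.two, fun _ => Or.inl h⟩
  have nord : ∀ {n : ℕ}, ¬ n ∣ Nat.card M → ∀ m ∈ M, orderOf m ≠ n := by
    intro n h m hm ho
    apply h
    have := Subgroup.orderOf_dvd_natCard M hm
    rwa [ho] at this
  obtain ⟨x4, hx4⟩ := hasOrd_four hF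
  obtain ⟨x12, hx12⟩ := hasOrd hF (N := 12) (by norm_num)
  obtain ⟨x8, hx8⟩ := hasOrd hF (N := 8) (by norm_num)
  obtain ⟨x7, hx7⟩ := hasOrd hF (N := 7) (by norm_num)
  obtain ⟨x9, hx9⟩ := hasOrd hF (N := 9) (by norm_num)
  obtain ⟨a, b, ha, hb, hab⟩ := exists_thirteen hF
  by_cases h2 : 2 ∣ Nat.card M
  swap
  · exact three (three_of_not_dvd hF (Or.inl rfl) h2)
  by_cases h3 : 3 ∣ Nat.card M
  swap
  · exact three (three_of_not_dvd hF (Or.inr rfl) h3)
  by_cases h1092 : Nat.card M = 1092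
  · refine three (Three.of_orders (a := 4) (b := 8) (c := 9) (by norm_num) (by norm_num) (by norm_num) hx4 hx8 hx9
      ?_ (nord (by rw [h1092]; norm_num)) (nord (by rw [h1092]; norm_num)))
    refine no_order_two (k := 2) (data_g23 OT hS hF) (l := [(2, 6), (3, 6), (7, 1), (13, 1)])
      (prs := [2, 3, 7, 13]) (by rw [hcard]; decide +kernel) M (by norm_num) h1092 (by norm_num) ?_ (by decide +kernel)
    intro r hr
    simp only [List.mem_cons, List.not_mem_nil, or_false] at hr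
    rcases hr with rfl | rfl | rfl | rfl <;> norm_num
  by_cases h7 : 7 ∣ Nat.card M
  · have h42 : 42 ∣ Nat.card M := by
      have h6 : 2 * 3 ∣ Nat.card M := Nat.Coprime.mul_dvd_of_dvd_of_dvd (by norm_num) h2 h3
      exact Nat.Coprime.mul_dvd_of_dvd_of_dvd (by norm_num : Nat.Coprime 6 7) h6 h7
    have h13 := coatom_seven OT hS hF hM h42 h1092
    obtain ⟨hl, -, hy⟩ := seven OT hS hF h7 h13
    -- the missing element of order 8 or 9
    obtain ⟨n, y, hn, hyn, hyM⟩ : ∃ (n : ℕ) (y : ↥(chevG2.group F)), ¬ 13 ∣ n ∧ orderOf y = n ∧ ∀ m ∈ M, orderOf m ≠ n := by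
      rcases hy with hy | hy
      · exact ⟨9, x9, by norm_num, hx9, hy⟩
      · exact ⟨8, x8, by norm_num, hx8, hy⟩
    have hne : n ≠ 13 := by rintro rfl; exact hn dvd_rfl
    have two : Two ↥(chevG2.group F) M := Two.of_orders hne.symm ha hyn (nord h13) hyM
    refine ⟨two, fun hc => ?_⟩
    by_cases h64 : 64 ∣ Nat.card M
    · exfalso
      rcases eq_top_or_exists_le_coatom M with h4 | ⟨M', hM', hle⟩
      · exact hM h4
      have hlt : M ≠ M' := fun h => hc (h ▸ hM')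
      have hd := Subgroup.card_dvd_of_le hle
      have hne' : Nat.card M ≠ Nat.card M' := fun h => hlt (Subgroup.eq_of_le_of_card_ge hle h.ge)
      have h42' : 42 ∣ Nat.card M' := h42.trans hd
      have h1092' : Nat.card M' ≠ 1092 := by
        intro h
        have h5 := h64.trans hd
        rw [h] at h5
        revert h5
        norm_num
      have h13' := coatom_seven OT hS hF hM'.1 h42' h1092'
      obtain ⟨hl', hL', -⟩ := seven OT hS hF ((by norm_num : 7 ∣ 42).trans h42') h13'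
      have key : ∀ u ∈ [7, 14, 21, 42, 56, 112, 168, 336, 504, 1512, 6048, 448, 1344, 12096],
          ∀ w ∈ [7, 14, 21, 42, 56, 112, 168, 336, 504, 1512, 6048, 448, 1344, 12096],
          u ≠ w → u % 64 = 0 → u % 3 = 0 → w % u = 0 → u = 1344 ∧ w = 12096 := by decide +kernel
      obtain ⟨hu, hw⟩ := key _ hl _ hl' hne' (Nat.mod_eq_zero_of_dvd h64) (Nat.mod_eq_zero_of_dvd h3)
        (Nat.mod_eq_zero_of_dvd hd)
      obtain ⟨L, hLn, hL2⟩ := hL' hw
      exact no1344 OT hS hF hle hu hLn hL2 hw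
    · refine Or.inr ⟨?_, two, Or.inl (noOne hF h64)⟩
      refine ThreeT.of_two (v := 13) (x := a) (y := b) (z := y) h13 (by rw [ha]) (by rw [hb]) hab ?_ (by rw [hyn]; exact hn)
      intro g hg
      exact hyM _ hg (by rw [orderOf_conj, hyn])
  by_cases h13 : 13 ∣ Nat.card M
  · obtain ⟨L, R, hRn, hLn, hRH, h1, hsim, hab', hmem⟩ := str13 OT hS hF M h13 h7
    have hR : Nat.card R = Nat.card M / L.index / Nat.card (L ⧸ R) := by
      rw [h1, Nat.mul_div_cancel _ (Nat.pos_of_ne_zero Subgroup.index_ne_zero_of_finite),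
        Nat.mul_div_cancel _ Nat.card_pos]
    have k4 : ∀ t ∈ out13, t.1 % 4 ≠ 0 ∨ t = (5616, 1, 5616) ∨ t = (11232, 2, 5616) ∨ t.1 = 4245696 := by decide
    rcases k4 _ hmem with h | h | h | h
    · have h4 : ¬ 4 ∣ Nat.card M := fun h5 => h (Nat.mod_eq_zero_of_dvd h5)
      exact three (Three.of_orders (a := 7) (b := 4) (c := 8) (by norm_num) (by norm_num) (by norm_num) hx7 hx4 hx8
        (nord h7) (nord h4) (nord fun h5 => h4 ((by norm_num : 4 ∣ 8).trans h5)))
    · simp only [Prod.mk.injEq] at h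
      obtain ⟨h5, h6, h8⟩ := h
      have hno : ∀ n : ℕ, (n = 9 ∨ n = 12) → ∀ m ∈ M, orderOf m ≠ n := by
        intro n hn m hm ho
        obtain ⟨y, hy⟩ := ord_quot (L := L) (R := R) (n := n) (by rw [h6]; exact Nat.coprime_one_right _)
          (by rw [hR, h5, h6, h8]; exact Nat.coprime_one_right _) (x := ⟨m, hm⟩) (by rw [Subgroup.orderOf_mk]; exact ho)
        have h9 := ord_5616 OT hS hsim (by
          rcases hab' with h9 | h9
          · rw [h9] at h8; norm_num at h8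
          · exact h9) h8 y
        rcases hn with rfl | rfl
        · exact h9.1 hy
        · exact h9.2 hy
      exact three (Three.of_orders (a := 7) (b := 9) (c := 12) (by norm_num) (by norm_num) (by norm_num) hx7 hx9 hx12
        (nord h7) (hno 9 (Or.inl rfl)) (hno 12 (Or.inr rfl)))
    · simp only [Prod.mk.injEq] at h
      obtain ⟨h5, h6, h8⟩ := h
      have hno : ∀ m ∈ M, orderOf m ≠ 9 := by
        intro m hm ho
        obtain ⟨y, hy⟩ := ord_quot (L := L) (R := R) (n := 9) (by rw [h6]; norm_num)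
          (by rw [hR, h5, h6, h8]; norm_num) (x := ⟨m, hm⟩) (by rw [Subgroup.orderOf_mk]; exact ho)
        exact (ord_5616 OT hS hsim (by
          rcases hab' with h9 | h9
          · rw [h9] at h8; norm_num at h8
          · exact h9) h8 y).1 hy
      refine ⟨Two.of_orders (a := 7) (b := 9) (by norm_num) hx7 hx9 (nord h7) hno, fun hc => ?_⟩
      exfalso
      rcases eq_top_or_exists_le_coatom M with h4 | ⟨M', hM', hle⟩
      · exact hM h4
      have hlt : M ≠ M' := fun h => hc (h ▸ hM')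
      have hd := Subgroup.card_dvd_of_le hle
      have hne' : Nat.card M ≠ Nat.card M' := fun h => hlt (Subgroup.eq_of_le_of_card_ge hle h.ge)
      have h7' : ¬ 7 ∣ Nat.card M' := by
        intro h7'
        have h42' : 42 ∣ Nat.card M' := by
          have h6 : 2 * 3 ∣ Nat.card M' := Nat.Coprime.mul_dvd_of_dvd_of_dvd (by norm_num) (h2.trans hd) (h3.trans hd)
          exact Nat.Coprime.mul_dvd_of_dvd_of_dvd (by norm_num : Nat.Coprime 6 7) h6 h7'
        refine coatom_seven OT hS hF hM'.1 h42' ?_ (h13.trans hd)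
        intro h9
        rw [h9, h5] at hd
        revert hd
        norm_num
      obtain ⟨L', R', hRn', hLn', hRH', h1', hsim', hab'', hmem'⟩ := str13 OT hS hF M' (h13.trans hd) h7'
      have key : ∀ t ∈ out13, t.1 ≠ 11232 → t.1 % 11232 = 0 → t.1 = 4245696 := by decide
      rw [h5] at hne' hd
      have h9 := key _ hmem' hne'.symm (Nat.mod_eq_zero_of_dvd hd)
      exact hM'.1 (Subgroup.eq_top_of_card_eq M' (by rw [hcard]; exact h9))
    · exact absurd (Subgroup.eq_top_of_card_eq M (by rw [hcard]; exact h)) hM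
  · -- `{2, 3}`-groups
    have two : Two ↥(chevG2.group F) M := Two.of_orders (a := 7) (b := 13) (by norm_num) hx7 ha (nord h7) (nord h13)
    refine ⟨two, fun hc => ?_⟩
    by_cases h64 : 64 ∣ Nat.card M
    · left
      exact Three.of_orders (a := 7) (b := 13) (c := 9) (by norm_num) (by norm_num) (by norm_num) hx7 ha hx9
        (nord h7) (nord h13) (no_nine hF h7 h13 h64)
    · refine Or.inr ⟨?_, two, Or.inl (noOne hF h64)⟩
      refine ThreeT.of_two (v := 13) (x := a) (y := b) (z := x7) h13 (by rw [ha]) (by rw [hb]) hab ?_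
        (by rw [hx7]; norm_num)
      intro g hg
      exact nord h7 _ hg (by rw [orderOf_conj, hx7])

theorem rowW_g23 (hF : Fintype.card F = 3) : RowW ↥(chevG2.group F) :=
  ⟨Or.inl fun M hM => (main OT hS hF M hM.1).1, fun R hR hRc => (main OT hS hF R hR).2 hRc⟩

theorem row_g23 (hF : Fintype.card F = 3) : Row ↥(chevG2.group F) :=
  fun M hM => Or.inl (main OT hS hF M hM.1).1

end

end Cfsg.Agent.H394.Der.G23
end

-- part: H394/Der/NscD4
section
/-!
# One class of derangements: `NSC (³D₄(q))`, `q ≥ 3` (helper394, task 2396)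
-/

set_option autoImplicit false

namespace Cfsg.Agent.H394.Der

open Subgroup Cfsg Cfsg.Lie Cfsg.Agent.H439.Der Cfsg.Agent.H129.CycT Cfsg.Agent.H129.CycCard
open Cfsg.Agent.H378.ExcAdj

theorem dvd_N12_of_od {q v : ℕ} (hq : 1 ≤ q) (hv : v.Prime) (h : od q v = 12) : v ∣ q ^ 4 - q ^ 2 + 1 := by
  have h1 := dvd_of_od_dvd (r := v) hq (n := 12) (by rw [h])
  have h2 : ∀ n : ℕ, ¬ 12 ∣ n → ¬ v ∣ q ^ n - 1 := fun n hn h2 => by
    have := od_dvd (r := v) hq (n := n) h2
    rw [h] at this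
    exact hn this
  have h0 : q ^ 2 ≤ q ^ 4 := Nat.pow_le_pow_right hq (by norm_num)
  have e : q ^ 12 - 1 = (q ^ 6 - 1) * ((q ^ 2 + 1) * (q ^ 4 - q ^ 2 + 1)) := by
    have h4 : 1 ≤ q ^ 6 := Nat.one_le_pow _ _ hq
    have h5 : 1 ≤ q ^ 12 := Nat.one_le_pow _ _ hq
    zify [hq, h4, h5, h0]; ring
  rw [e] at h1
  rcases hv.dvd_mul.1 h1 with h4 | h4
  · exact absurd h4 (h2 6 (by decide))
  rcases hv.dvd_mul.1 h4 with h4 | h4
  · exfalso
    apply h2 4 (by decide)
    have e2 : q ^ 4 - 1 = (q ^ 2 - 1) * (q ^ 2 + 1) := by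
      have h6 : 1 ≤ q ^ 2 := Nat.one_le_pow _ _ hq
      have h7 : 1 ≤ q ^ 4 := Nat.one_le_pow _ _ hq
      zify [hq, h6, h7]; ring
    rw [e2]
    exact h4.mul_left _
  · exact h4

variable {K : Type} [Field K] [Fintype K] {q : ℕ}

theorem card_d4_N12 (hq : IsPrimePow q) (hK : Fintype.card K = q ^ 3) :
    Nat.card ↥(twistedD4 K q) =
      (q ^ 4 - q ^ 2 + 1) * (q ^ 12 * (q ^ 2 - 1) * (q ^ 6 - 1) * (q ^ 4 + q ^ 2 + 1)) := by
  rw [S1067.result hq hK]
  have h1 := hq.one_lt.le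
  have e : q ^ 8 + q ^ 4 + 1 = (q ^ 4 - q ^ 2 + 1) * (q ^ 4 + q ^ 2 + 1) := by
    have h0 : q ^ 2 ≤ q ^ 4 := Nat.pow_le_pow_right h1 (by norm_num)
    zify [h0]; ring
  rw [e]; ring

theorem mod_N12 {q v : ℕ} (h1 : 1 ≤ q) (h : v ∣ q ^ 4 - q ^ 2 + 1) :
    q ^ 12 * (q ^ 2 - 1) * (q ^ 6 - 1) * (q ^ 4 + q ^ 2 + 1) ≡ 4 [MOD v] := by
  rw [← ZMod.natCast_eq_natCast_iff]
  have h00 : q ^ 2 ≤ q ^ 4 := Nat.pow_le_pow_right h1 (by norm_num)
  have h0 : (q : ZMod v) ^ 4 - (q : ZMod v) ^ 2 + 1 = 0 := by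
    have := (ZMod.natCast_eq_zero_iff (q ^ 4 - q ^ 2 + 1) v).2 h
    push_cast [h00] at this
    exact this
  push_cast [Nat.one_le_pow 2 q h1, Nat.one_le_pow 6 q h1]
  generalize (q : ZMod v) = x at h0
  linear_combination (-4 - 4 * x ^ 2 + 4 * x ^ 6 + 4 * x ^ 8 - 3 * x ^ 12 - 3 * x ^ 14 + x ^ 18 + x ^ 20) * h0

end Cfsg.Agent.H394.Der
end
end

-- part: H394/Der/NtcD4
section
set_option linter.all false
open scoped Cfsg.Agent.FastGrp

/-!
# Two classes of derangements: `NTC (³D₄(q))`, `q ≥ 3` (helper394, task 2983)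
-/

set_option autoImplicit false

namespace Cfsg.Agent.H394.Der

open Subgroup Cfsg Cfsg.Lie Cfsg.Agent.H439.Der Cfsg.Agent.H129.CycT Cfsg.Agent.H129.CycCard
open Cfsg.Agent.H378.TwAdj Cfsg.Agent.H493.PGD4T Cfsg.Agent.H493.PGTorus Cfsg.Agent.H378.ExcAdj
open Cfsg.Agent.H493 Cfsg.Agent.H493.PGCyc

theorem not_SCC_of_Pr {T : Type*} [Group T] {v w w' : ℕ} (hv : v.Prime) (hw : w.Prime) (hw' : w'.Prime) (h1 : v ≠ w)
    (h2 : v ≠ w') (h3 : w ≠ w') (ha : Pr T v w) (hb : Pr T v w') : ¬ SCC T v := by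
  obtain ⟨x, y, hx, hy, hc⟩ := ha
  obtain ⟨x', y', hx', hy', hc'⟩ := hb
  have o1 : orderOf (x * y) = v * w := by
    rw [hc.orderOf_mul_eq_mul_orderOf_of_coprime (by rw [hx, hy]; exact (Nat.coprime_primes hv hw).2 h1), hx, hy]
  have o2 : orderOf (x' * y') = v * w' := by
    rw [hc'.orderOf_mul_eq_mul_orderOf_of_coprime (by rw [hx', hy']; exact (Nat.coprime_primes hv hw').2 h2), hx', hy']
  refine not_SCC_of_orders (x := x) (y := x * y) (z := x' * y') (by rw [hx]) (by rw [o1]; exact dvd_mul_right _ _)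
    (by rw [o2]; exact dvd_mul_right _ _) ?_ ?_ ?_
  · rw [hx, o1]
    intro h
    have : v * 1 < v * w := Nat.mul_lt_mul_of_pos_left hw.one_lt hv.pos
    omega
  · rw [hx, o2]
    intro h
    have : v * 1 < v * w' := Nat.mul_lt_mul_of_pos_left hw'.one_lt hv.pos
    omega
  · rw [o1, o2]
    intro h
    exact h3 (Nat.eq_of_mul_eq_mul_left hv.pos h)

section

variable {K : Type} [Field K] [Fintype K] {q : ℕ}

/-- primes adjacent to the characteristic -/
theorem not_SCC_d4_near (hq : IsPrimePow q) (hK : Fintype.card K = q ^ 3) (h3 : 3 ≤ q) {v : ℕ} (hv : v.Prime)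
    (h : v ∣ q ∨ (v : ℤ) ∣ pv c1 q ∨ (v : ℤ) ∣ pv c2 q ∨ (v : ℤ) ∣ pv c3 q ∨ (v : ℤ) ∣ pv c6 q) :
    ¬ SCC ↥(twistedD4 K q) v := by
  obtain ⟨p, n, hp, hn, hpn⟩ := id hq
  have hp := hp.nat_prime
  have hpq : p ∣ q := hpn ▸ dvd_pow_self p hn.ne'
  have hne : ∀ {r : ℕ} {f : ℕ} {c : Fin (f + 1) → ℤ}, r.Prime → (c 0 = 1 ∨ c 0 = -1) → (r : ℤ) ∣ pv c (q : ℤ) →
      r ≠ p := by
    intro r f c hr hc h
    rw [← hpn] at h
    exact H493.PGTwist.ne_char hc hp hn h
  have hA1 := fun {r : ℕ} (hr : r.Prime) (h : (r : ℤ) ∣ pv c1 q) =>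
    pairD_p hq hK chainA_ok hThA eigA_1 (by decide) (by decide) fixA vanA_1 hr hp h hpq
  have hA3 := fun {r : ℕ} (hr : r.Prime) (h : (r : ℤ) ∣ pv c3 q) =>
    pairD_p hq hK chainA_ok hThA eigA_3 (by decide) (by decide) fixA vanA_3 hr hp h hpq
  have hB2 := fun {r : ℕ} (hr : r.Prime) (h : (r : ℤ) ∣ pv c2 q) =>
    pairD_p hq hK chainB_ok hThB eigB_2 (by decide) (by decide) fixB vanB_2 hr hp h hpq
  have hB6 := fun {r : ℕ} (hr : r.Prime) (h : (r : ℤ) ∣ pv c6 q) =>
    pairD_p hq hK chainB_ok hThB eigB_6 (by decide) (by decide) fixB vanB_6 hr hp h hpq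
  have h13 := fun {r s : ℕ} (hr : r.Prime) (hs : s.Prime) (h : (r : ℤ) ∣ pv c1 q) (h' : (s : ℤ) ∣ pv c3 q) =>
    pairD_gen hq hK chainA_ok hThA eigA_1 (by decide) eigA_3 (by decide) hr hs h h'
  have h26 := fun {r s : ℕ} (hr : r.Prime) (hs : s.Prime) (h : (r : ℤ) ∣ pv c2 q) (h' : (s : ℤ) ∣ pv c6 q) =>
    pairD_gen hq hK chainB_ok hThB eigB_2 (by decide) eigB_6 (by decide) hr hs h h'
  -- auxiliary primes
  obtain ⟨a3, ha3, ha3', ha3'', ha3d⟩ := H378.ExcNear.exists_three (q := q) (by omega)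
  have ha3c : (a3 : ℤ) ∣ pv c3 q := by
    rw [pv_c3]
    have := Int.natCast_dvd_natCast.2 ha3d
    push_cast at this
    exact this
  obtain ⟨a6, ha6, ha6', ha6'', ha6c⟩ := H378.TwRows.exists_six (q := q) h3
  have hne36 : a3 ≠ a6 := by
    rintro rfl
    have e1 := dvd_sub ha3c ha6c
    rw [pv_c3, pv_c6] at e1
    have e2 : ((q : ℤ) ^ 2 + q + 1 - ((q : ℤ) ^ 2 - q + 1)) = 2 * q := by ring
    rw [e2] at e1
    have ha' := Nat.prime_iff_prime_int.1 ha3
    rcases ha'.dvd_mul.1 e1 with e3 | e3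
    · have e4 : a3 ∣ 2 := Int.natCast_dvd_natCast.1 (by exact_mod_cast e3)
      exact ha3'' ((Nat.prime_dvd_prime_iff_eq ha3 Nat.prime_two).1 e4)
    · have e4 : a3 ∣ q := Int.natCast_dvd_natCast.1 e3
      exact hne ha3 (by decide) ha3c ((Nat.prime_dvd_prime_iff_eq ha3 hp).1 (ha3.dvd_of_dvd_pow (hpn ▸ e4)))
  obtain ⟨a1, ha1, ha1d⟩ := Nat.exists_prime_and_dvd (n := q - 1) (by omega)
  have ha1c : (a1 : ℤ) ∣ pv c1 q := by
    rw [pv_c1]
    have := Int.natCast_dvd_natCast.2 ha1d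
    rwa [Nat.cast_sub (by omega), Nat.cast_one] at this
  obtain ⟨a2, ha2, ha2d⟩ := Nat.exists_prime_and_dvd (n := q + 1) (by omega)
  have ha2c : (a2 : ℤ) ∣ pv c2 q := by
    rw [pv_c2]
    have := Int.natCast_dvd_natCast.2 ha2d
    push_cast at this
    exact this
  -- coprimality
  have hcop13 : ∀ r : ℕ, r.Prime → r ≠ 3 → (r : ℤ) ∣ pv c1 q → ¬ (r : ℤ) ∣ pv c3 q := by
    intro r hr hr3 e1 e2
    rw [pv_c1] at e1
    rw [pv_c3] at e2
    have e3 : (r : ℤ) ∣ 3 := by
      have := dvd_sub e2 (e1.mul_right ((q : ℤ) + 2))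
      have e4 : ((q : ℤ) ^ 2 + q + 1 - ((q : ℤ) - 1) * ((q : ℤ) + 2)) = 3 := by ring
      rwa [e4] at this
    exact hr3 ((Nat.prime_dvd_prime_iff_eq hr Nat.prime_three).1 (Int.natCast_dvd_natCast.1 (by exact_mod_cast e3)))
  have hcop26 : ∀ r : ℕ, r.Prime → r ≠ 3 → (r : ℤ) ∣ pv c2 q → ¬ (r : ℤ) ∣ pv c6 q := by
    intro r hr hr3 e1 e2
    rw [pv_c2] at e1
    rw [pv_c6] at e2
    have e3 : (r : ℤ) ∣ 3 := by
      have := dvd_sub e2 (e1.mul_right ((q : ℤ) - 2))
      have e4 : ((q : ℤ) ^ 2 - q + 1 - ((q : ℤ) + 1) * ((q : ℤ) - 2)) = 3 := by ring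
      rwa [e4] at this
    exact hr3 ((Nat.prime_dvd_prime_iff_eq hr Nat.prime_three).1 (Int.natCast_dvd_natCast.1 (by exact_mod_cast e3)))
  have hvp : ∀ {f : ℕ} {c : Fin (f + 1) → ℤ}, (c 0 = 1 ∨ c 0 = -1) → (v : ℤ) ∣ pv c (q : ℤ) → v ≠ p :=
    fun hc h => hne hv hc h
  by_cases h1 : (v : ℤ) ∣ pv c1 q
  · exact not_SCC_of_Pr hv hp ha3 (hvp (by decide) h1)
      (by rintro rfl; exact hcop13 v hv ha3' h1 ha3c) (hne ha3 (by decide) ha3c).symm (hA1 hv h1) (h13 hv ha3 h1 ha3c)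
  by_cases h2 : (v : ℤ) ∣ pv c2 q
  · exact not_SCC_of_Pr hv hp ha6 (hvp (by decide) h2)
      (by rintro rfl; exact hcop26 v hv ha6' h2 ha6c) (hne ha6 (by decide) ha6c).symm (hB2 hv h2) (h26 hv ha6 h2 ha6c)
  rcases h with h | h | h | h | h
  · have hvp : v = p := (Nat.prime_dvd_prime_iff_eq hv hp).1 (hv.dvd_of_dvd_pow (hpn ▸ h))
    subst hvp
    exact not_SCC_of_Pr hv ha3 ha6 (hne ha3 (by decide) ha3c).symm (hne ha6 (by decide) ha6c).symm hne36
      (hA3 ha3 ha3c).symm (hB6 ha6 ha6c).symm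
  · exact absurd h h1
  · exact absurd h h2
  · exact not_SCC_of_Pr hv hp ha1 (hvp (by decide) h) (by rintro rfl; exact h1 ha1c)
      (hne ha1 (by decide) ha1c).symm (hA3 hv h) (h13 ha1 hv ha1c h).symm
  · exact not_SCC_of_Pr hv hp ha2 (hvp (by decide) h) (by rintro rfl; exact h2 ha2c)
      (hne ha2 (by decide) ha2c).symm (hB6 hv h) (h26 ha2 hv ha2c h).symm

/-- **`NTC (³D₄(q))`**, `q ≥ 3` -/
theorem ntc_d4 {p f : ℕ} (hp : p.Prime) (hq : q = p ^ f) (hK : Fintype.card K = q ^ 3) (h3 : 3 ≤ q) :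
    NTC ↥(twistedD4 K q) := by
  intro v hv hd
  have hpF := Fact.mk hp
  have hf0 : f ≠ 0 := by rintro rfl; rw [pow_zero] at hq; omega
  have hqp : IsPrimePow q := hq ▸ hp.isPrimePow.pow hf0
  have hd' := hd
  rw [Cfsg.Agent.S1067.result hqp hK] at hd'
  rcases cover hqp.two_le hv hd' with h | h
  · exact not_SCC_d4_near hqp hK h3 hv h
  have hK' : Fintype.card K = p ^ (3 * f) := by rw [hK, hq, ← pow_mul, mul_comm]
  have hch : CharP K p := H161.G2Main.charP_of_card (by omega) hK'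
  have hO : Nat.card (Out ↥(twistedD4 K q)) ≤ 3 * f := by
    rw [hq, S2129.result p f hK' (by omega)]
  have h12 : od q v = 12 := H378.TwRows.od_of_c12 hv h
  have h1 : 1 ≤ q := by omega
  have hvN := dvd_N12_of_od h1 hv h12
  have h0 : q ^ 2 ≤ q ^ 4 := Nat.pow_le_pow_right h1 (by norm_num)
  have hN : ((q ^ 4 - q ^ 2 + 1 : ℕ) : ℤ) = 1 - (q : ℤ) ^ 2 + (q : ℤ) ^ 4 := by push_cast [h0]; ring
  have hmod12 := H378.ExcNear.mod_of_od hv h12 (by norm_num)
  have hv12 : 12 < v := by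
    have := hv.two_le
    have h13 := Nat.le_of_dvd (by omega) hmod12
    omega
  have hmod := mod_N12 h1 hvN
  have h9 : 3 * 3 ≤ q ^ 2 := by rw [pow_two]; exact Nat.mul_le_mul h3 h3
  have hin : 12 * f < q ^ 2 * (q ^ 2 - 1) ∧ 40 * f ≤ q ^ 2 * (q ^ 2 - 1) := by
    have e : q ^ 2 = (p ^ 2) ^ f := by rw [hq, ← pow_mul, ← pow_mul, mul_comm]
    have hpp : 4 ≤ p ^ 2 := by have := hp.two_le; nlinarith
    have hmono : ∀ a b : ℕ, a ≤ b → a * (a - 1) ≤ b * (b - 1) := fun a b h => Nat.mul_le_mul h (by omega)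
    refine ⟨by rw [e]; exact ineq (by omega) (by rw [← e]; omega), ?_⟩
    rcases Nat.lt_or_ge f 2 with h2 | h2
    · have hf1 : f = 1 := by omega
      subst hf1
      exact le_trans (by norm_num) (hmono 9 _ (by omega))
    · rw [e]
      refine le_trans ?_ (hmono (4 ^ f) _ (Nat.pow_le_pow_left hpp f))
      have h4 : 40 * f ≤ 4 ^ f * 15 ∧ 16 ≤ 4 ^ f := by
        clear e hO hK' hq hqp hf0
        induction f, h2 using Nat.le_induction with
        | base => norm_num
        | succ n hn ih => rw [pow_succ]; omega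
      exact h4.1.trans (Nat.mul_le_mul le_rfl (by omega))
  have hqq : q ^ 2 * (q ^ 2 - 1) = q ^ 4 - q ^ 2 := by
    rw [Nat.mul_sub, mul_one, ← pow_add]
  refine not_SCC_of_card (m := 4) hv (card_tD4_12 hqp hK (r := v) hN hv (by
      rw [← hN]; exact Int.natCast_dvd_natCast.2 hvN)) (card_d4_N12 hqp hK) ?_ hmod
    (by norm_num) (by omega) hO ?_
  · intro h4
    have h5 := hmod.symm.trans ((Nat.modEq_zero_iff_dvd).2 h4)
    have h6 := Nat.le_of_dvd (by norm_num) ((Nat.modEq_zero_iff_dvd).1 h5)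
    omega
  · have h8 : (q ^ 4 - q ^ 2 + 1) / v ≤ (q ^ 4 - q ^ 2 + 1) / 12 := Nat.div_le_div_left hv12.le (by norm_num)
    have : 1 ≤ f := by omega
    omega

end

end Cfsg.Agent.H394.Der
end
end
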