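import Cfsg.Agent.H394.Der.NtcD4
import Cfsg.Agent.H896.Der4.Even_m3
import Cfsg.Agent.H788.Der.DTwoRow
import Cfsg.Agent.H983.ElG.RowD4_m3
import Cfsg.Agent.Prune
set_option linter.all false
prune_inst 0x7f00000000000000000000000000000000000000000000000000000000000000000000000000000000000000000000000000000000000000000000000000000000000000000000000000000000000000003fffffffffffffffffffffffffffbeffbdffffffff
open scoped Cfsg.Agent.FastGrp

/-!
# Classes of derangements: the rows `G₂(q)` and `³D₄(q)` of S3500 and S3502 (helper394, tasks 2396, 2983)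

The hypotheses `OT`, `hS`, `has`, `hrf` are theorems of the library (`H394.Der.Fin`).
-/

set_option autoImplicit false

namespace Cfsg.Agent.H394.Der

open Cfsg Cfsg.Lie Cfsg.Agent.OrdDiv Cfsg.Agent.H436 Cfsg.Agent.H290.ElEng Cfsg.Agent.H290.ElRich
open Cfsg.Agent.H439.Der Cfsg.Agent.H938.Sax
open Cfsg.Agent.H264.FKS (Full)

theorem pgap_of_full {S : Type*} [Group S] (h : ∀ R : Subgroup S, Full S R → R = ⊤) (R : Subgroup S) (hR : R ≠ ⊤) :
    PGap S R := by
  by_contra hn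
  exact hR (h R fun r hr hd => by
    by_contra hr'
    exact hn ⟨r, hr, hd, hr'⟩)

section

variable (OT : OrderTable.{0}) (hS : ∀ (X : Type) [Group X] [Finite X] [IsSimpleGroup X], Cfsg.IsKnownSimple' X)
  (has : ASThm.{0}) (hrf : RichFix.{0})

include OT hS has hrf

/-- `G₂(q)` -/
theorem rows_g2' {F : Type} [Field F] [Fintype F] (h3 : 3 ≤ Fintype.card F) :
    RowW ↥(chevG2.group F) ∧ Row ↥(chevG2.group F) := by
  have hfin : Finite ↥(chevG2.group F) := inferInstance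
  by_cases hF3 : Fintype.card F = 3
  · exact ⟨G23.rowW_g23 OT hS hF3, G23.row_g23 OT hS hF3⟩
  by_cases hF4 : Fintype.card F = 4
  · exact ⟨G24.rowW_g24 OT hS hF4, G24.row_g24 OT hS hF4⟩
  have hN : IsNamed (.g2 (Fintype.card F)) ↥(chevG2.group F) :=
    .mk' ⟨F, inferInstance, inferInstance, rfl, ⟨MulEquiv.refl _⟩⟩ ⟨h3, Fintype.isPrimePow_card_of_field⟩ (by
      change 1 * _ = _ ^ 6 * _
      rw [OT.g2 F]; ring)
  obtain ⟨p, f, hp, hf, hq⟩ := (isPrimePow_nat_iff _).1 hN.cond.2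
  have h5 : 5 ≤ p ^ f := by omega
  have hntc := ntc_g2 hp hq.symm h5
  rw [← hq] at hN hF3
  have hgap : ∀ R : Subgroup ↥(chevG2.group F), R ≠ ⊤ → PGap ↥(chevG2.group F) R := by
    refine pgap_of_full fun R hR => ?_
    rcases H983.ElG.full_G2 has hrf (fun S _ _ _ hna => exists_named OT (hS S) fun h => hna ⟨⟨h⟩⟩) hp hf hN hR with
      h | ⟨h, -⟩
    · exact h
    · exact absurd h hF3
  have hrow := RowS.of_pgap hntc fun M hM => hgap M hM.1
  exact ⟨hrow.rowW, hrow.row⟩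

/-- `³D₄(q)` -/
theorem rows_d4' {K : Type} [Field K] [Fintype K] {q : ℕ} (hq : IsPrimePow q) (hK : Fintype.card K = q ^ 3) :
    RowW ↥(twistedD4 K q) ∧ Row ↥(twistedD4 K q) := by
  have hfin : Finite ↥(twistedD4 K q) := inferInstance
  have hN : IsNamed (.td4 q) ↥(twistedD4 K q) := by
    refine .mk' ⟨K, inferInstance, inferInstance, hK, ⟨MulEquiv.refl _⟩⟩ hq ?_
    change 1 * _ = _ ^ 12 * _
    rw [OT.td4 K q hq hK]; ring
  obtain ⟨p, f, hp, hf, hqp⟩ := (isPrimePow_nat_iff _).1 hq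
  have hgap : ∀ R : Subgroup ↥(twistedD4 K q), R ≠ ⊤ → PGap ↥(twistedD4 K q) R := by
    rw [← hqp] at hN
    refine pgap_of_full fun R hR => ?_
    exact H983.ElG.full_TD4 has hrf (fun S _ _ _ hna => exists_named OT (hS S) fun h => hna ⟨⟨h⟩⟩) hp hf
      (by rw [hqp] at hN; rw [hqp]; exact hN) hR
  by_cases h2 : q = 2
  · subst h2
    exact ⟨H788.Der.rowW_d4_two OT hS (by rw [hK]; norm_num) hgap, H788.Der.row_d4_two OT hS (by rw [hK]; norm_num) hgap⟩
  · have h3 : 3 ≤ q := by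
      have := hq.two_le
      omega
    have hntc := ntc_d4 (K := K) hp hqp.symm hK h3
    have hrow := RowS.of_pgap hntc fun M hM => hgap M hM.1
    exact ⟨hrow.rowW, hrow.row⟩

universe u

theorem rows_g2 {T : Type u} [Group T] (h : IsoChevG2 T) : RowW T ∧ Row T := by
  obtain ⟨F, _, _, hq, ⟨e⟩⟩ := h
  obtain ⟨h1, h2⟩ := rows_g2' OT hS has hrf hq
  exact ⟨h1.congr e.symm, h2.congr e.symm⟩

theorem rows_3d4 {T : Type u} [Group T] (h : Iso3D4 T) : RowW T ∧ Row T := by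
  obtain ⟨K, _, _, q, hq, hK, ⟨e⟩⟩ := h
  obtain ⟨h1, h2⟩ := rows_d4' OT hS has hrf hq hK
  exact ⟨h1.congr e.symm, h2.congr e.symm⟩

end

end Cfsg.Agent.H394.Der
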